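import Cfsg.Agent.Lib.Invol.OutSolv.Basic
import Cfsg.Agent.Lib.Recog.GenDihedral.ReduceBase

/-!
Isometry groups of anisotropic quadratic maps over the field of two elements are solvable.
On an irreducible module an involution is self-centralizing.
-/

set_option autoImplicit false
set_option linter.unusedSectionVars false
set_option linter.style.haveILetI false

namespace CfsgLib.Invol.OutSolv

open Subgroup

universe u

/-- An anisotropic quadratic map between elementary abelian 2-groups. -/
structure Form (W : Type u) (Q : Type u) [CommGroup W] [CommGroup Q] where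
  /-- The map. -/
  q : W → Q
  sqW : ∀ w : W, w * w = 1
  sqQ : ∀ a : Q, a * a = 1
  add : ∀ x x' y : W, q (x * x' * y) * q (x * x') * q y =
    (q (x * y) * q x * q y) * (q (x' * y) * q x' * q y)
  aniso : ∀ w, q w = 1 → w = 1

namespace Form

variable {W Q : Type u} [CommGroup W] [CommGroup Q] (F : Form W Q)

include F in
theorem inv_eq (a : W) : a⁻¹ = a := inv_eq_of_mul_eq_one_right (F.sqW a)

include F in
theorem eq_of_mul (a b : W) (h : a * b = 1) : a = b := by
  rw [eq_inv_of_mul_eq_one_left h, F.inv_eq]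

include F in
theorem eq_of_mulQ (a b : Q) (h : a * b = 1) : a = b := by
  rw [eq_inv_of_mul_eq_one_left h]
  exact inv_eq_of_mul_eq_one_right (F.sqQ b)

/-- The polar map. -/
def b (x y : W) : Q := F.q (x * y) * F.q x * F.q y

theorem b_comm (x y : W) : F.b x y = F.b y x := by
  unfold b
  rw [mul_comm x y, mul_right_comm]

theorem b_mul_left (x x' y : W) : F.b (x * x') y = F.b x y * F.b x' y := F.add x x' y

theorem b_mul_right (x y y' : W) : F.b x (y * y') = F.b x y * F.b x y' := by
  rw [F.b_comm, F.b_mul_left, F.b_comm x, F.b_comm x]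

theorem b_one_left (y : W) : F.b 1 y = 1 := by
  have h := F.b_mul_left 1 1 y
  rw [mul_one] at h
  exact mul_eq_left.1 h.symm

theorem q_one : F.q 1 = 1 := by
  have h := F.b_one_left 1
  rwa [b, mul_one, F.sqQ, one_mul] at h

theorem b_self (x : W) : F.b x x = 1 := by
  rw [b, F.sqW, F.q_one, one_mul, F.sqQ]

theorem q_mul (x y : W) : F.q (x * y) = F.q x * F.q y * F.b x y := by
  have h : F.b x y = F.q (x * y) * (F.q x * F.q y) := mul_assoc _ _ _
  rw [h, mul_comm (F.q (x * y)), ← mul_assoc, F.sqQ, one_mul]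

/-- The polar map with one argument fixed. -/
def bHom (v : W) : W →* Q where
  toFun y := F.b v y
  map_one' := by rw [F.b_comm]; exact F.b_one_left v
  map_mul' := F.b_mul_right v

theorem bHom_apply (v y : W) : F.bHom v y = F.b v y := rfl

/-- The restriction of a form to a subgroup. -/
def res (M : Subgroup W) : Form M Q where
  q := fun m => F.q m
  sqW := fun m => Subtype.ext (F.sqW m)
  sqQ := F.sqQ
  add := fun x x' y => F.add x x' y
  aniso := fun m h => Subtype.ext (F.aniso m h)

/-- `K` preserves the form. -/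
def Inv (K : Subgroup (MulAut W)) : Prop := ∀ k ∈ K, ∀ w, F.q (k w) = F.q w

variable {F} {K : Subgroup (MulAut W)}

theorem Inv.b_map (hK : F.Inv K) {k : MulAut W} (hk : k ∈ K) (x y : W) :
    F.b (k x) (k y) = F.b x y := by
  unfold Form.b
  rw [← map_mul, hK k hk, hK k hk, hK k hk]

/-- The orthogonal of a subgroup. -/
def perp (F : Form W Q) (N : Subgroup W) : Subgroup W where
  carrier := {w | ∀ n ∈ N, F.b w n = 1}
  one_mem' := fun n _ => F.b_one_left n
  mul_mem' := fun {a b} ha hb n hn => by rw [F.b_mul_left, ha n hn, hb n hn, one_mul]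
  inv_mem' := fun {a} ha => by rw [F.inv_eq]; exact ha

theorem Inv.perp_invariant (hK : F.Inv K) {N : Subgroup W}
    (hN : ∀ k ∈ K, ∀ x ∈ N, k x ∈ N) : ∀ k ∈ K, ∀ x ∈ perp F N, k x ∈ perp F N := by
  intro k hk x hx n hn
  have h := hK.b_map hk x (k⁻¹ n)
  rw [show k (k⁻¹ n) = n from k.apply_symm_apply n] at h
  rw [h]
  exact hx _ (hN _ (K.inv_mem hk) n hn)

theorem Inv.res_range (hK : F.Inv K) (M : Subgroup W) (hM : ∀ k ∈ K, ∀ x ∈ M, k x ∈ M) :
    (F.res M).Inv (restrict K M hM).range := by
  rintro _ ⟨k, rfl⟩ m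
  exact hK k k.2 m

section Irreducible

variable [Finite W]

/-- An involution of an irreducible isometry group is self-centralizing. -/
theorem Inv.centralizer_invol (hK : F.Inv K)
    (hirr : ∀ M : Subgroup W, (∀ k ∈ K, ∀ x ∈ M, k x ∈ M) → M = ⊥ ∨ M = ⊤)
    (hfix : ∀ w : W, (∀ k ∈ K, k w = w) → w = 1)
    {τ : MulAut W} (hτ : τ ∈ K) (hτ2 : τ * τ = 1) (hτ1 : τ ≠ 1)
    {σ : MulAut W} (hσ : σ ∈ K) (hc : σ * τ = τ * σ) : σ = 1 ∨ σ = τ := by
  classical
  have hsurj : ∀ v : W, v ≠ 1 → ∀ x, F.q x ∈ (F.bHom v).range := by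
    intro v hv
    set R := (F.bHom v).range with hR
    let Rd : Subgroup W :=
      { carrier := {x | ∀ y, F.b x y ∈ R}
        one_mem' := fun y => by rw [F.b_one_left]; exact R.one_mem
        mul_mem' := fun {a b} ha hb y => by rw [F.b_mul_left]; exact R.mul_mem (ha y) (hb y)
        inv_mem' := fun {a} ha => by rw [F.inv_eq]; exact ha }
    have hinv : ∀ k ∈ K, ∀ x ∈ Rd, k x ∈ Rd := by
      intro k hk x hx y
      have h := hK.b_map hk x (k⁻¹ y)
      rw [show k (k⁻¹ y) = y from k.apply_symm_apply y] at h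
      rw [h]
      exact hx _
    have hRd : ∀ x y, F.b x y ∈ R := by
      rcases hirr Rd hinv with h | h
      · exact absurd (show v ∈ Rd from fun y => ⟨y, rfl⟩) (by rw [h, Subgroup.mem_bot]; exact hv)
      · exact fun x => (show x ∈ Rd from h ▸ Subgroup.mem_top x)
    let M : Subgroup W :=
      { carrier := {x | F.q x ∈ R}
        one_mem' := show F.q 1 ∈ R by rw [F.q_one]; exact R.one_mem
        mul_mem' := fun {a b} ha hb => show F.q (a * b) ∈ R by
          rw [F.q_mul]; exact R.mul_mem (R.mul_mem ha hb) (hRd a b)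
        inv_mem' := fun {a} ha => show F.q a⁻¹ ∈ R by rw [F.inv_eq]; exact ha }
    have hM : ∀ k ∈ K, ∀ x ∈ M, k x ∈ M := fun k hk x hx => show F.q (k x) ∈ R by
      rw [hK k hk]; exact hx
    rcases hirr M hM with h | h
    · refine absurd (hfix v fun k hk => ?_) hv
      have hmem : k v * v ∈ M := show F.q (k v * v) ∈ R by
        rw [F.q_mul, hK k hk, F.sqQ, one_mul]; exact hRd _ _
      rw [h, Subgroup.mem_bot] at hmem
      exact F.eq_of_mul _ _ hmem
    · exact fun x => (show x ∈ M from h ▸ Subgroup.mem_top x)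
  let d : W →* W := τ.toMonoidHom * MonoidHom.id W
  have hd : ∀ x, d x = τ x * x := fun _ => rfl
  have htt : ∀ x, τ (τ x) = x := fun x => DFunLike.congr_fun hτ2 x
  set I := d.range with hI
  set Fx := d.ker with hFx
  have hmemF : ∀ {x}, x ∈ Fx ↔ τ x = x := by
    intro x
    rw [hFx, MonoidHom.mem_ker, hd]
    exact ⟨F.eq_of_mul _ _, fun h => by rw [h, F.sqW]⟩
  have hIF : I ≤ Fx := by
    rintro _ ⟨x, rfl⟩
    rw [hmemF, hd, map_mul, htt, mul_comm]
  have hsym : ∀ x y, F.b (d x) y = F.b x (d y) := by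
    intro x y
    rw [hd, hd, F.b_mul_left, F.b_mul_right]
    congr 1
    conv_lhs => rw [← hK.b_map hτ, htt]
  have hperp : ∀ v ∈ I, ∀ u ∈ Fx, F.b v u = 1 := by
    rintro _ ⟨x, rfl⟩ u hu
    rw [hsym, show d u = 1 from hu, F.b_comm]
    exact F.b_one_left x
  have hqI : ∀ v ∈ I, ∀ u ∈ Fx, F.q (v * u) = F.q v * F.q u := fun v hv u hu => by
    rw [F.q_mul, hperp v hv u hu, mul_one]
  obtain ⟨x₀, hx₀⟩ : ∃ x, d x ≠ 1 := by
    by_contra h
    push Not at h
    exact hτ1 (MulEquiv.ext fun x => F.eq_of_mul (τ x) x (by rw [← hd]; exact h x))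
  have main : ∀ v ∈ I, v ≠ 1 →
      (∀ u ∈ Fx, u ∈ I) ∧ ∀ y, F.b v y = 1 → y ∈ Fx := by
    intro v hv hv1
    let qI : I →* Q :=
      { toFun := fun i => F.q i
        map_one' := F.q_one
        map_mul' := fun a c => hqI a a.2 c (hIF c.2) }
    have hinjI : Function.Injective qI := (injective_iff_map_eq_one qI).2 fun i hi =>
      Subtype.ext (F.aniso _ hi)
    set R := (F.bHom v).range with hR
    have hle : qI.range ≤ R := by
      rintro _ ⟨i, rfl⟩; exact hsurj v hv1 i
    have hker : Fx ≤ (F.bHom v).ker := fun u hu => hperp v hv u hu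
    haveI : Finite R := Finite.of_surjective (F.bHom v).rangeRestrict (F.bHom v).rangeRestrict_surjective
    have c1 : Nat.card qI.range = Nat.card I :=
      (Nat.card_congr (MonoidHom.ofInjective hinjI).toEquiv).symm
    have c2 : Nat.card I * Nat.card Fx = Nat.card W := by
      rw [← Subgroup.card_mul_index Fx, hFx, Subgroup.index_ker, hI, mul_comm]
    have c3 : Nat.card R * Nat.card (F.bHom v).ker = Nat.card W := by
      rw [← Subgroup.card_mul_index (F.bHom v).ker, Subgroup.index_ker, hR, mul_comm]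
    have c4 : Nat.card Fx ≤ Nat.card (F.bHom v).ker := Subgroup.card_le_of_le hker
    have c5 : Nat.card I ≤ Nat.card R := c1 ▸ Subgroup.card_le_of_le hle
    have hIpos : 0 < Nat.card I := Nat.card_pos
    have hFpos : 0 < Nat.card Fx := Nat.card_pos
    have c6 : Nat.card R = Nat.card I ∧ Nat.card (F.bHom v).ker = Nat.card Fx := by
      constructor
      · refine le_antisymm ?_ c5
        by_contra hlt
        push Not at hlt
        have : Nat.card I * Nat.card Fx < Nat.card R * Nat.card (F.bHom v).ker :=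
          Nat.mul_lt_mul_of_lt_of_le hlt c4 (by omega)
        omega
      · refine le_antisymm ?_ c4
        by_contra hlt
        push Not at hlt
        have : Nat.card I * Nat.card Fx < Nat.card R * Nat.card (F.bHom v).ker :=
          Nat.mul_lt_mul_of_le_of_lt c5 hlt (by omega)
        omega
    have hR' : qI.range = R := Subgroup.eq_of_le_of_card_ge hle (by rw [c1, c6.1])
    have hker' : Fx = (F.bHom v).ker := Subgroup.eq_of_le_of_card_ge hker (by rw [c6.2])
    refine ⟨fun u hu => ?_, fun y hy => hker' ▸ hy⟩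
    obtain ⟨⟨i, hi⟩, hiq⟩ := (show F.q u ∈ qI.range from hR' ▸ hsurj v hv1 u)
    have h1 : i * u = 1 := F.aniso _ (by
      rw [hqI i hi u hu, show F.q i = F.q u from hiq, F.sqQ])
    rw [← F.eq_of_mul _ _ h1]; exact hi
  have hFI : ∀ u ∈ Fx, u ∈ I := (main _ ⟨x₀, rfl⟩ hx₀).1
  have hσd : ∀ x, σ (d x) = d (σ x) := fun x => by
    rw [hd, hd, map_mul]
    congr 1
    exact DFunLike.congr_fun hc x
  have hσI : ∀ v ∈ I, σ v = v := by
    rintro _ ⟨x, rfl⟩
    refine F.eq_of_mul _ _ (F.aniso _ ?_)
    rw [hσd, hqI _ ⟨_, rfl⟩ _ (hIF ⟨x, rfl⟩), ← hσd, hK σ hσ, F.sqQ]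
  let e : W →* W := σ.toMonoidHom * MonoidHom.id W
  have he : ∀ x, e x = σ x * x := fun _ => rfl
  have heI : ∀ x, e x ∈ I := by
    intro x
    refine hFI _ ((main _ ⟨x₀, rfl⟩ hx₀).2 _ ?_)
    rw [he, F.b_mul_right]
    nth_rw 1 [← hσI _ ⟨x₀, rfl⟩]
    rw [hK.b_map hσ, F.sqQ]
  have hσx : ∀ x, σ x = x * e x := fun x => by
    rw [he, mul_comm (σ x), ← mul_assoc, F.sqW, one_mul]
  have hqe : ∀ x, F.q (e x) = F.b x (e x) := by
    intro x
    have h := hK σ hσ x
    rw [hσx, F.q_mul, mul_assoc] at h
    exact F.eq_of_mulQ _ _ (mul_eq_left.1 h)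
  have hesym : ∀ x y, F.b (e x) y = F.b x (e y) := by
    intro x y
    have h := hK.b_map hσ x y
    rw [hσx, hσx, F.b_mul_left, F.b_mul_right, F.b_mul_right,
      hperp _ (heI x) _ (hIF (heI y)), mul_one, mul_assoc] at h
    exact (F.eq_of_mulQ _ _ (mul_eq_left.1 h)).symm
  have hqd : ∀ x, F.q (d x) = F.b x (d x) := by
    intro x
    have h := hK τ hτ x
    rw [show τ x = x * d x by rw [hd, mul_comm (τ x), ← mul_assoc, F.sqW, one_mul], F.q_mul,
      mul_assoc] at h
    exact F.eq_of_mulQ _ _ (mul_eq_left.1 h)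
  have key : ∀ x, e x = 1 ∨ e x = d x := by
    intro x
    by_cases h1 : e x = 1
    · exact Or.inl h1
    obtain ⟨y, hy⟩ := heI x
    right
    have h2 : F.b (d y) (x * y) = 1 := by
      have h3 : F.b (d y) x = F.q (d y) := by rw [F.b_comm, hy, hqe]
      rw [F.b_mul_right, h3, F.b_comm, ← hqd, F.sqQ]
    have h4 := (main (d y) ⟨y, rfl⟩ (by rwa [hy])).2 _ h2
    rw [hFx, MonoidHom.mem_ker, map_mul] at h4
    rw [← hy]
    exact (F.eq_of_mul _ _ h4).symm
  by_cases hA : ∀ x, e x = 1
  · left
    exact MulEquiv.ext fun x => by rw [hσx, hA, mul_one]; rfl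
  · right
    push Not at hA
    obtain ⟨a, ha⟩ := hA
    refine MulEquiv.ext fun x => ?_
    rw [hσx]
    have hx : e x = d x := by
      rcases key x with h | h
      · rcases key (x * a) with h' | h'
        · rw [map_mul, h, one_mul] at h'
          exact absurd h' ha
        · rw [map_mul, map_mul, h, one_mul, (key a).resolve_left ha] at h'
          rw [h]
          exact (mul_eq_right.1 h'.symm).symm
      · exact h
    rw [hx, hd, mul_comm (τ x), ← mul_assoc, F.sqW, one_mul]

/-- An irreducible isometry group without fixed points is solvable. -/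
theorem Inv.solvable_irreducible (hK : F.Inv K)
    (hirr : ∀ M : Subgroup W, (∀ k ∈ K, ∀ x ∈ M, k x ∈ M) → M = ⊥ ∨ M = ⊤)
    (hfix : ∀ w : W, (∀ k ∈ K, k w = w) → w = 1) : Group.IsSolvable K := by
  classical
  haveI : Fact (Nat.Prime 2) := ⟨Nat.prime_two⟩
  obtain ⟨T⟩ : Nonempty (Sylow 2 K) := inferInstance
  refine CfsgLib.Recog.GenDihedral.isSolvable_of_cyclic_sylow T ?_
  by_cases hT : (T : Subgroup K) = ⊥
  · rw [hT]; infer_instance
  haveI : Nontrivial (T : Subgroup K) := (Subgroup.nontrivial_iff_ne_bot _).2 hT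
  haveI := T.2.center_nontrivial
  obtain ⟨z, hz⟩ := exists_prime_orderOf_dvd_card' (G := Subgroup.center (T : Subgroup K)) 2 (by
    obtain ⟨n, hn, hc⟩ := (T.2.to_subgroup (Subgroup.center _)).nontrivial_iff_card.1 inferInstance
    rw [hc]; exact dvd_pow_self 2 hn.ne')
  have hz2 : z * z = 1 := by
    have := pow_orderOf_eq_one z
    rwa [hz, pow_two] at this
  have hz1 : z ≠ 1 := fun h => by rw [h, orderOf_one] at hz; omega
  set t : (T : Subgroup K) := (z : (T : Subgroup K)) with ht
  have hcard : Nat.card (T : Subgroup K) ≤ 2 := by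
    haveI := Fintype.ofFinite (T : Subgroup K)
    rw [Nat.card_eq_fintype_card]
    refine (Finset.card_le_card (t := {1, t}) (s := Finset.univ) ?_).trans Finset.card_le_two
    intro s _
    have hcm : s * t = t * s := Subgroup.mem_center_iff.1 z.2 s
    rcases hK.centralizer_invol hirr hfix (τ := ((t : K) : MulAut W)) (t : K).2
        (congrArg (fun a : Subgroup.center (T : Subgroup K) => (((a : (T : Subgroup K)) : K) : MulAut W)) hz2)
        (fun h => hz1 (Subtype.ext (Subtype.ext (Subtype.ext h))))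
        (σ := ((s : K) : MulAut W)) (s : K).2
        (congrArg (fun a : (T : Subgroup K) => ((a : K) : MulAut W)) hcm) with h | h
    · exact Finset.mem_insert.2 (Or.inl (Subtype.ext (Subtype.ext h)))
    · exact Finset.mem_insert.2 (Or.inr (Finset.mem_singleton.2 (Subtype.ext (Subtype.ext h))))
  have h2 : Nat.card (T : Subgroup K) = 2 := by
    have := Finite.one_lt_card (α := (T : Subgroup K))
    omega
  exact isCyclic_of_prime_card h2

end Irreducible

/-- Isometry groups of anisotropic quadratic maps are solvable. -/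
theorem solvable_aux : ∀ (n : ℕ) {W Q : Type u} [CommGroup W] [CommGroup Q] [Finite W],
    Nat.card W = n → ∀ (F : Form W Q) (K : Subgroup (MulAut W)), F.Inv K → Group.IsSolvable K := by
  intro n
  induction n using Nat.strong_induction_on with
  | _ n ih =>
  intro W Q _ _ _ hn F K hK
  classical
  let U : Subgroup W :=
    { carrier := {w | ∀ k ∈ K, k w = w}
      one_mem' := fun k _ => map_one k
      mul_mem' := fun {a b} ha hb k hk => by rw [map_mul, ha k hk, hb k hk]
      inv_mem' := fun {a} ha k hk => by rw [map_inv, ha k hk] }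
  have hUinv : ∀ k ∈ K, ∀ x ∈ U, k x ∈ U := fun k hk x hx => by rw [hx k hk]; exact hx
  have hsmall : ∀ M : Subgroup W, M ≠ ⊤ → Nat.card M < n := fun M hM => hn ▸
    lt_of_le_of_ne (Subgroup.card_le_card_group M) fun h => hM (Subgroup.eq_top_of_card_eq M h)
  have hmul : ∀ (k : MulAut W) (x : W), x⁻¹ * k x = k x * x := fun k x => by
    rw [F.inv_eq, mul_comm]
  by_cases hU : U = ⊥
  · have hfix : ∀ w : W, (∀ k ∈ K, k w = w) → w = 1 := fun w hw => by
      have : w ∈ U := hw
      rwa [hU, Subgroup.mem_bot] at this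
    by_cases hirr : ∀ M : Subgroup W, (∀ k ∈ K, ∀ x ∈ M, k x ∈ M) → M = ⊥ ∨ M = ⊤
    · exact hK.solvable_irreducible hirr hfix
    push Not at hirr
    obtain ⟨M₀, hM₀, hM₀b, hM₀t⟩ := hirr
    obtain ⟨N, hNle, hN⟩ := Finite.exists_le_minimal
      (p := fun N : Subgroup W => (∀ k ∈ K, ∀ x ∈ N, k x ∈ N) ∧ N ≠ ⊥) (a := M₀) ⟨hM₀, hM₀b⟩
    obtain ⟨hNinv, hNb⟩ := hN.prop
    have hNt : N ≠ ⊤ := fun h => hM₀t (top_le_iff.1 (h ▸ hNle))
    set P := perp F N with hP
    have hPinv := hK.perp_invariant hNinv
    have hPt : P ≠ ⊤ := by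
      intro h
      obtain ⟨v, hvN, hv⟩ := (Subgroup.bot_or_exists_ne_one N).resolve_left hNb
      refine hv (hfix v fun k hk => F.eq_of_mul _ _ (F.aniso _ ?_))
      rw [F.q_mul, hK k hk, F.sqQ, one_mul]
      exact (show k v ∈ P from h ▸ Subgroup.mem_top _) v hvN
    haveI h1 : Group.IsSolvable (restrict K N hNinv).range :=
      ih _ (hsmall N hNt) rfl (F.res N) _ (hK.res_range N hNinv)
    haveI h2 : Group.IsSolvable (restrict K P hPinv).range :=
      ih _ (hsmall P hPt) rfl (F.res P) _ (hK.res_range P hPinv)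
    refine solvable_of_range_ker
      ((restrict K N hNinv).rangeRestrict.prod (restrict K P hPinv).rangeRestrict) inferInstance ?_
    refine solvable_ker_of K _ (solvable_of_stability _ P (fun a _ b _ => mul_comm a b) ?_ ?_)
    · rintro _ ⟨k, hk, rfl⟩ z hz
      have h := congrArg (fun p : (restrict K N hNinv).range × (restrict K P hPinv).range =>
        (((p.2 : MulAut P) ⟨z, hz⟩ : P) : W)) (MonoidHom.mem_ker.1 hk)
      exact h
    · rintro _ ⟨k, hk, rfl⟩ x m hm
      have h : (k : MulAut W) m = m := congrArg (fun p : (restrict K N hNinv).range ×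
        (restrict K P hPinv).range => (((p.1 : MulAut N) ⟨m, hm⟩ : N) : W)) (MonoidHom.mem_ker.1 hk)
      rw [hmul, F.b_mul_left]
      show F.b ((k : MulAut W) x) m * F.b x m = 1
      nth_rw 1 [← h]
      rw [hK.b_map k.2, F.sqQ]
  · set P := perp F U with hP
    have hPinv := hK.perp_invariant hUinv
    by_cases hPt : P = ⊤
    · have hb : ∀ w, ∀ u ∈ U, F.b w u = 1 := fun w u hu =>
        (show w ∈ P from hPt ▸ Subgroup.mem_top w) u hu
      let qU : U →* Q :=
        { toFun := fun u => F.q u
          map_one' := F.q_one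
          map_mul' := fun a c => by
            show F.q ((a : W) * c) = F.q a * F.q c
            rw [F.q_mul, hb a c c.2, mul_one] }
      let R := qU.range
      have hwd : ∀ a c : W, QuotientGroup.leftRel U a c →
          (F.q a : Q ⧸ R) = (F.q c : Q ⧸ R) := by
        intro a c h
        rw [QuotientGroup.leftRel_apply] at h
        obtain ⟨u, hu, rfl⟩ : ∃ u ∈ U, c = a * u := ⟨a⁻¹ * c, h, by group⟩
        rw [F.q_mul, hb a u hu, mul_one, QuotientGroup.mk_mul,
          (QuotientGroup.eq_one_iff (F.q u)).2 (MonoidHom.mem_range.2 ⟨⟨u, hu⟩, rfl⟩), mul_one]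
      let F' : Form (W ⧸ U) (Q ⧸ R) :=
        { q := fun x => Quotient.liftOn' x (fun w => (F.q w : Q ⧸ R)) hwd
          sqW := fun x => by
            induction x using QuotientGroup.induction_on with
            | _ a => rw [← QuotientGroup.mk_mul, F.sqW, QuotientGroup.mk_one]
          sqQ := fun x => by
            induction x using QuotientGroup.induction_on with
            | _ a => rw [← QuotientGroup.mk_mul, F.sqQ, QuotientGroup.mk_one]
          add := fun x x' y => by
            induction x using QuotientGroup.induction_on with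
            | _ a =>
            induction x' using QuotientGroup.induction_on with
            | _ a' =>
            induction y using QuotientGroup.induction_on with
            | _ c => exact congrArg (QuotientGroup.mk (s := R)) (F.add a a' c)
          aniso := fun x h => by
            induction x using QuotientGroup.induction_on with
            | _ a =>
            obtain ⟨⟨u, hu⟩, hq⟩ := MonoidHom.mem_range.1 ((QuotientGroup.eq_one_iff (F.q a)).1 h)
            rw [QuotientGroup.eq_one_iff]
            have h1 : a * u = 1 := F.aniso _ (by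
              rw [F.q_mul, hb a u hu, show F.q u = F.q a from hq, F.sqQ, one_mul])
            rw [F.eq_of_mul _ _ h1]
            exact hu }
      have hcard : Nat.card (W ⧸ U) < n := by
        rw [← hn, Subgroup.card_eq_card_quotient_mul_card_subgroup U]
        have h1 : 1 < Nat.card U := by
          haveI := (Subgroup.nontrivial_iff_ne_bot U).2 hU
          exact Finite.one_lt_card
        exact lt_mul_of_one_lt_right Nat.card_pos h1
      haveI : Group.IsSolvable (quotHom K U hUinv).range := ih _ hcard rfl F' _ (by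
        rintro _ ⟨k, rfl⟩ x
        induction x using QuotientGroup.induction_on with
        | _ a => exact congrArg (QuotientGroup.mk (s := R)) (hK k k.2 a))
      refine solvable_of_range_ker (quotHom K U hUinv) inferInstance
        (solvable_ker_of K _ (solvable_of_stability _ U (fun a _ b _ => mul_comm a b) ?_ ?_))
      · rintro _ ⟨k, -, rfl⟩ z hz
        exact hz k k.2
      · rintro _ ⟨k, hk, rfl⟩ x
        have h := DFunLike.congr_fun (MonoidHom.mem_ker.1 hk) (x : W ⧸ U)
        rw [quotHom_mk] at h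
        exact QuotientGroup.eq.1 h.symm
    · haveI : Group.IsSolvable (restrict K P hPinv).range :=
        ih _ (hsmall P hPt) rfl (F.res P) _ (hK.res_range P hPinv)
      refine solvable_of_range_ker (restrict K P hPinv) inferInstance
        (solvable_ker_of K _ (solvable_of_stability _ P (fun a _ b _ => mul_comm a b) ?_ ?_))
      · rintro _ ⟨k, hk, rfl⟩ z hz
        exact congrArg Subtype.val (DFunLike.congr_fun (MonoidHom.mem_ker.1 hk) (⟨z, hz⟩ : P))
      · rintro _ ⟨k, -, rfl⟩ x u hu
        rw [hmul, F.b_mul_left]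
        show F.b ((k : MulAut W) x) u * F.b x u = 1
        nth_rw 1 [← hu k k.2]
        rw [hK.b_map k.2, F.sqQ]

theorem Inv.solvable [Finite W] (hK : F.Inv K) : Group.IsSolvable K :=
  solvable_aux (Nat.card W) rfl F K hK

end Form

end CfsgLib.Invol.OutSolv
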