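import Mathlib

/-!
Automorphism groups of finite groups: restriction to invariant subgroups and stability groups.
-/

set_option autoImplicit false

namespace CfsgLib.Invol.OutSolv

open Subgroup

variable {P : Type*} [Group P]

/-- Restriction of a group of automorphisms to an invariant subgroup. -/
def restrict (K : Subgroup (MulAut P)) (M : Subgroup P) (h : ∀ k ∈ K, ∀ x ∈ M, k x ∈ M) :
    K →* MulAut M where
  toFun k :=
    { toFun := fun x => ⟨(k : MulAut P) x, h k k.2 x x.2⟩
      invFun := fun x => ⟨(k⁻¹ : K).1 x, h _ (k⁻¹).2 x x.2⟩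
      left_inv := fun _ => Subtype.ext ((k : MulAut P).symm_apply_apply _)
      right_inv := fun _ => Subtype.ext ((k : MulAut P).apply_symm_apply _)
      map_mul' := fun _ _ => Subtype.ext (map_mul (k : MulAut P) _ _) }
  map_one' := rfl
  map_mul' _ _ := rfl

theorem restrict_apply (K : Subgroup (MulAut P)) (M : Subgroup P)
    (h : ∀ k ∈ K, ∀ x ∈ M, k x ∈ M) (k : K) (x : M) :
    ((restrict K M h k x : M) : P) = (k : MulAut P) x := rfl

/-- The automorphism induced on the quotient by an invariant normal subgroup. -/
noncomputable def quotHom (K : Subgroup (MulAut P)) (M : Subgroup P) [M.Normal]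
    (h : ∀ k ∈ K, ∀ x ∈ M, k x ∈ M) : K →* MulAut (P ⧸ M) where
  toFun k := QuotientGroup.congr M M (k : MulAut P) (by
    ext x
    constructor
    · rintro ⟨y, hy, rfl⟩
      exact h k k.2 y hy
    · intro hx
      exact ⟨(k⁻¹ : K).1 x, h _ (k⁻¹).2 x hx, (k : MulAut P).apply_symm_apply x⟩)
  map_one' := by
    refine MulEquiv.ext fun x => ?_
    induction x using QuotientGroup.induction_on
    rfl
  map_mul' a b := by
    refine MulEquiv.ext fun x => ?_
    induction x using QuotientGroup.induction_on
    rfl

theorem quotHom_mk (K : Subgroup (MulAut P)) (M : Subgroup P) [M.Normal]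
    (h : ∀ k ∈ K, ∀ x ∈ M, k x ∈ M) (k : K) (x : P) :
    quotHom K M h k (x : P ⧸ M) = (((k : MulAut P) x : P) : P ⧸ M) := rfl

/-- Extensions of solvable groups, stated for a homomorphism. -/
theorem solvable_of_range_ker {A B : Type*} [Group A] [Group B] (f : A →* B)
    (hr : Group.IsSolvable f.range) (hk : Group.IsSolvable f.ker) : Group.IsSolvable A :=
  Group.isSolvable_of_ker_le_range f.ker.subtype f.rangeRestrict (by
    rw [Subgroup.range_subtype, MonoidHom.ker_rangeRestrict])

/-- Automorphisms fixing a commutative subgroup pointwise and moving every element inside its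
coset of that subgroup commute. -/
theorem solvable_of_stability (K : Subgroup (MulAut P)) (Z : Subgroup P)
    (hcomm : ∀ a ∈ Z, ∀ b ∈ Z, a * b = b * a) (hfix : ∀ k ∈ K, ∀ z ∈ Z, k z = z)
    (hmove : ∀ k ∈ K, ∀ x, x⁻¹ * k x ∈ Z) : Group.IsSolvable K := by
  refine Group.isSolvable_of_comm fun a b => Subtype.ext (MulEquiv.ext fun x => ?_)
  show (a : MulAut P) ((b : MulAut P) x) = (b : MulAut P) ((a : MulAut P) x)
  have key : ∀ c d : K, (c : MulAut P) ((d : MulAut P) x) =
      x * ((x⁻¹ * (c : MulAut P) x) * (x⁻¹ * (d : MulAut P) x)) := fun c d => by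
    conv_lhs => rw [show (d : MulAut P) x = x * (x⁻¹ * (d : MulAut P) x) by group, map_mul,
      hfix c c.2 _ (hmove d d.2 x)]
    group
  rw [key, key, hcomm _ (hmove a a.2 x) _ (hmove b b.2 x)]

/-- The kernel of a homomorphism on `K`, as a group of automorphisms. -/
theorem solvable_ker_of {B : Type*} [Group B] (K : Subgroup (MulAut P)) (f : K →* B)
    (h : Group.IsSolvable (f.ker.map K.subtype)) : Group.IsSolvable f.ker := by
  have := h
  exact Group.isSolvable_of_isSolvable_injective
    (f := ((Subgroup.equivMapOfInjective f.ker K.subtype K.subtype_injective).toMonoidHom))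
    (MulEquiv.injective _)

end CfsgLib.Invol.OutSolv
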