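import Cfsg.Agent.Lib.Invol.OutSolv.Basic
import Cfsg.Agent.Lib.ClassK.Zsigmondy
import Cfsg.Agent.Lib.Perm.HalfTransOddPGroup
import Cfsg.Agent.Lib.StructC.BurnsideBasis
import Cfsg.Agent.Lib.Char.Burnside

/-!
If `X` is normal in `Y ≤ GL(n,2)` and transitive on nonzero vectors then `Y / X` is solvable:
Frattini argument on a primitive prime divisor of `2^n - 1`, and on the primes 3 and 7 for `n = 6`.
-/

set_option autoImplicit false
set_option linter.unusedSectionVars false
set_option linter.style.haveILetI false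

namespace CfsgLib.Invol.OutSolv

open Subgroup

universe u

variable {V : Type u} [CommGroup V] [Finite V]

/-- The fixed points of an automorphism. -/
def fixSub {M : Type u} [Group M] (σ : MulAut M) : Subgroup M :=
  MonoidHom.eqLocus σ.toMonoidHom (MonoidHom.id M)

theorem mem_fixSub {M : Type u} [Group M] {σ : MulAut M} {x : M} : x ∈ fixSub σ ↔ σ x = x := Iff.rfl

theorem fix_modEq {M : Type u} [Group M] [Finite M] (p : ℕ) [Fact p.Prime] (σ : MulAut M)
    (hσ : σ ^ p = 1) (T : Subgroup M) (hT : ∀ x ∈ T, σ x ∈ T) :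
    Nat.card (T ⊓ fixSub σ : Subgroup M) ≡ Nat.card T [MOD p] := by
  have hTn : ∀ (n : ℕ) (x : M), x ∈ T → (σ ^ n) x ∈ T := by
    intro n
    induction n with
    | zero => exact fun x hx => hx
    | succ n ih => exact fun x hx => by rw [pow_succ]; exact ih _ (hT x hx)
  have hA : ∀ a : zpowers σ, ∀ x ∈ T, (a : MulAut M) x ∈ T := by
    rintro ⟨a, ha⟩ x hx
    obtain ⟨n, rfl⟩ := mem_powers_iff_mem_zpowers.2 ha
    exact hTn n x hx
  letI : MulAction (zpowers σ) T :=
    { smul := fun a x => ⟨(a : MulAut M) x, hA a x x.2⟩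
      one_smul := fun _ => Subtype.ext rfl
      mul_smul := fun _ _ _ => Subtype.ext rfl }
  have hP : IsPGroup p (zpowers σ) := by
    rintro ⟨a, ha⟩
    obtain ⟨j, rfl⟩ := mem_zpowers_iff.1 ha
    refine ⟨1, Subtype.ext ?_⟩
    show (σ ^ j) ^ p ^ 1 = 1
    rw [pow_one, ← zpow_natCast, ← zpow_mul, mul_comm, zpow_mul, zpow_natCast, hσ, one_zpow]
  refine Nat.ModEq.trans ?_ (hP.card_modEq_card_fixedPoints T).symm
  refine congrArg (· % p) ?_
  refine Nat.card_congr
    { toFun := fun x => ⟨⟨x, x.2.1⟩, ?_⟩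
      invFun := fun x => ⟨x.1, x.1.2, ?_⟩
      left_inv := fun _ => rfl
      right_inv := fun _ => rfl }
  · rintro ⟨a, ha⟩
    obtain ⟨n, rfl⟩ := mem_powers_iff_mem_zpowers.2 ha
    refine Subtype.ext ?_
    show (σ ^ n) (x : M) = x
    induction n with
    | zero => rfl
    | succ n ih =>
      rw [pow_succ, MulAut.mul_apply, mem_fixSub.1 x.2.2]
      exact ih ((mem_powers_iff_mem_zpowers.1 ⟨n, rfl⟩))
  · exact congrArg Subtype.val (x.2 ⟨σ, mem_zpowers σ⟩)

/-- No proper nontrivial invariant subgroup. -/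
def Irr (g : MulAut V) : Prop :=
  ∀ M : Subgroup V, (∀ x ∈ M, g x ∈ M) → M = ⊥ ∨ M = ⊤

theorem commute_of_irr {g : MulAut V} (hg : Irr g) {h h' : MulAut V} (hh : Commute h g)
    (hh' : Commute h' g) : Commute h h' := by
  rcases subsingleton_or_nontrivial V with hs | hs
  · exact MulEquiv.ext fun _ => Subsingleton.elim _ _
  obtain ⟨v, hv⟩ := exists_ne (1 : V)
  have hpow : ∀ (n : ℕ) (x : V), Commute h g → h ((g ^ n) x) = (g ^ n) (h x) := fun n x hc =>
    DFunLike.congr_fun (hc.pow_right n) x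
  let R : Subgroup V :=
    { carrier := {y | ∃ f : V →* V, f v = y ∧
        ∀ k : MulAut V, Commute k g → ∀ x, k (f x) = f (k x)}
      one_mem' := ⟨1, rfl, fun k _ x => by rw [MonoidHom.one_apply, MonoidHom.one_apply, map_one]⟩
      mul_mem' := by
        rintro _ _ ⟨f, rfl, hf⟩ ⟨f', rfl, hf'⟩
        exact ⟨f * f', rfl, fun k hk x => by
          rw [MonoidHom.mul_apply, MonoidHom.mul_apply, map_mul, hf k hk, hf' k hk]⟩
      inv_mem' := by
        rintro _ ⟨f, rfl, hf⟩
        exact ⟨f⁻¹, rfl, fun k hk x => by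
          rw [MonoidHom.inv_apply, MonoidHom.inv_apply, map_inv, hf k hk]⟩ }
  have hRg : ∀ y ∈ R, g y ∈ R := by
    rintro _ ⟨f, rfl, hf⟩
    exact ⟨g.toMonoidHom.comp f, rfl, fun k hk x => by
      show k (g (f x)) = g (f (k x))
      rw [← hf k hk]
      exact DFunLike.congr_fun hk (f x)⟩
  have hR : h' v ∈ R := by
    rcases hg R hRg with h1 | h1
    · exact absurd (show v ∈ R from ⟨MonoidHom.id V, rfl, fun _ _ _ => rfl⟩)
        (by rw [h1, mem_bot]; exact hv)
    · rw [h1]; exact mem_top _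
  obtain ⟨f, hfv, hf⟩ := hR
  have heq : ∀ x, h' x = f x := by
    have hinv : ∀ x ∈ MonoidHom.eqLocus h'.toMonoidHom f, g x ∈ MonoidHom.eqLocus h'.toMonoidHom f := by
      intro x hx
      show h' (g x) = f (g x)
      rw [← hf g (Commute.refl g), ← show h' x = f x from hx]
      exact DFunLike.congr_fun hh' x
    rcases hg _ hinv with h1 | h1
    · exact absurd (show v ∈ MonoidHom.eqLocus h'.toMonoidHom f from hfv.symm)
        (by rw [h1, mem_bot]; exact hv)
    · exact fun x => show x ∈ MonoidHom.eqLocus h'.toMonoidHom f by rw [h1]; exact mem_top _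
  refine MulEquiv.ext fun x => ?_
  show h (h' x) = h' (h x)
  rw [heq, heq, hf h hh]

/-- The normalizer of a cyclic group containing an irreducible element is solvable. -/
theorem solvable_normalizer_of_irr {g : MulAut V} (hg : Irr g) (L : Subgroup (MulAut V))
    [IsCyclic L] (hgL : g ∈ L) : Group.IsSolvable (normalizer (L : Set (MulAut V))) := by
  let φ : normalizer (L : Set (MulAut V)) →* MulAut L := L.normalizerMonoidHom
  have hr : Group.IsSolvable φ.range := Group.isSolvable_of_comm fun a b => Subtype.ext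
    (MulEquiv.ext fun x => by
      obtain ⟨m, hm⟩ := MonoidHom.map_cyclic (a : MulAut L).toMonoidHom
      obtain ⟨l, hl⟩ := MonoidHom.map_cyclic (b : MulAut L).toMonoidHom
      show (a : MulAut L).toMonoidHom ((b : MulAut L).toMonoidHom x) =
        (b : MulAut L).toMonoidHom ((a : MulAut L).toMonoidHom x)
      rw [hl x, hm (x ^ l), hm x, hl (x ^ m), ← zpow_mul, ← zpow_mul, mul_comm])
  refine solvable_of_range_ker φ hr (Group.isSolvable_of_comm fun a b => ?_)
  have hc : ∀ k : φ.ker, Commute ((k : normalizer (L : Set (MulAut V))) : MulAut V) g := by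
    intro k
    have h := congrArg Subtype.val
      (DFunLike.congr_fun (MonoidHom.mem_ker.1 k.2) (⟨g, hgL⟩ : L))
    exact mul_inv_eq_iff_eq_mul.1 h
  exact Subtype.ext (Subtype.ext (commute_of_irr hg (hc a) (hc b)))

/-- A semiregular odd prime power group of automorphisms of an elementary 2-group is cyclic. -/
theorem cyclic_of_fpf (hV : ∀ v : V, v * v = 1) {p : ℕ} [Fact p.Prime] (hp2 : p ≠ 2)
    (L : Subgroup (MulAut V)) (hL : IsPGroup p L)
    (hfpf : ∀ τ ∈ L, τ ^ p = 1 → τ ≠ 1 → ∀ v, τ v = v → v = 1) : IsCyclic L := by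
  letI inst : DistribMulAction L (Additive V) :=
    { smul := fun g x => Additive.ofMul ((g : MulAut V) x.toMul)
      one_smul := fun _ => rfl
      mul_smul := fun _ _ _ => rfl
      smul_zero := fun g => congrArg Additive.ofMul (map_one (g : MulAut V))
      smul_add := fun g x y => congrArg Additive.ofMul (map_mul (g : MulAut V) x.toMul y.toMul) }
  haveI : FaithfulSMul L (Additive V) :=
    ⟨fun {a b} h => Subtype.ext (MulEquiv.ext fun x =>
      congrArg Additive.toMul (h (Additive.ofMul x)))⟩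
  have hstab : ∀ u : Additive V, u ≠ 0 → MulAction.stabilizer L u = ⊥ := by
    intro u hu
    by_contra hne
    haveI := (Subgroup.nontrivial_iff_ne_bot (MulAction.stabilizer L u)).2 hne
    obtain ⟨m, hm, hcard⟩ := (hL.to_subgroup (MulAction.stabilizer L u)).nontrivial_iff_card.1
      inferInstance
    obtain ⟨τ, hτ⟩ := exists_prime_orderOf_dvd_card' (G := MulAction.stabilizer L u) p
      (by rw [hcard]; exact dvd_pow_self p hm.ne')
    have hτp : ((τ : L) : MulAut V) ^ p = 1 := by
      have := pow_orderOf_eq_one τ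
      rw [hτ] at this
      exact congrArg (fun a : MulAction.stabilizer L u => ((a : L) : MulAut V)) this
    have hτ1 : ((τ : L) : MulAut V) ≠ 1 := fun h => by
      have : τ = 1 := Subtype.ext (Subtype.ext h)
      rw [this, orderOf_one] at hτ
      exact (Fact.out : p.Prime).one_lt.ne hτ
    exact hu (congrArg Additive.ofMul
      (hfpf _ (τ : L).2 hτp hτ1 u.toMul (congrArg Additive.toMul τ.2)))
  have hpV : ∀ u : Additive V, p • u = 0 → u = 0 := by
    intro u hu
    obtain ⟨j, hj⟩ := (Fact.out : p.Prime).odd_of_ne_two hp2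
    rw [hj, succ_nsmul, mul_comm, mul_nsmul,
      show (2 : ℕ) • (j • u) = 0 from by rw [two_nsmul]; exact hV (j • u).toMul, zero_add] at hu
    exact hu
  exact (CfsgLib.Perm.HalfTransOdd.semiregular_of_coprime hp2 hL hpV fun u v hu hv => by
    rw [hstab u hu, hstab v hv]).1

theorem card_two_pow (hV : ∀ v : V, v * v = 1) : ∃ n, Nat.card V = 2 ^ n := by
  haveI : Fact (Nat.Prime 2) := ⟨Nat.prime_two⟩
  exact IsPGroup.iff_card.1 fun v => ⟨1, by rw [pow_one, pow_two]; exact hV v⟩

theorem card_sub_two_pow (hV : ∀ v : V, v * v = 1) {n : ℕ} (hn : Nat.card V = 2 ^ n)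
    (T : Subgroup V) : ∃ a ≤ n, Nat.card T = 2 ^ a :=
  (Nat.dvd_prime_pow Nat.prime_two).1 (hn ▸ T.card_subgroup_dvd_card)

/-- The order of the automorphism group of an elementary abelian 2-group. -/
theorem card_mulAut_dvd (hV : ∀ v : V, v * v = 1) {r : ℕ} (hr : Nat.card V = 2 ^ r) :
    Nat.card (MulAut V) ∣ ∏ i ∈ Finset.range r, (2 ^ r - 2 ^ i) := by
  haveI : Fact (Nat.Prime 2) := ⟨Nat.prime_two⟩
  letI : Module (ZMod 2) (Additive V) := AddCommGroup.zmodModule fun x => by
    rw [two_nsmul]; exact hV x.toMul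
  have h := CfsgLib.StructC.card_aut_dvd_card_tuples (⊤ : Subgroup (MulAut V))
    {f : Fin r → V | Subgroup.closure (Set.range f) = ⊤} (fun α _ f hf => by
      show Subgroup.closure (Set.range fun i => α (f i)) = ⊤
      rw [show (Set.range fun i => α (f i)) = α.toMonoidHom '' Set.range f from
        (Set.range_comp _ f), ← MonoidHom.map_closure, show Subgroup.closure (Set.range f) = ⊤ from hf]
      exact Subgroup.map_top_of_surjective _ α.surjective) (fun f hf => hf)
  rw [Subgroup.card_top] at h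
  rwa [← CfsgLib.StructC.card_generating_tuples_elemAb (p := 2) hr]

/-- A prime with fixed-point-free elements gives a solvable normalizer. -/
theorem solvable_normalizer_fpf (hV : ∀ v : V, v * v = 1) {n : ℕ} (hn : Nat.card V = 2 ^ n)
    {p : ℕ} [Fact p.Prime] (hp2 : p ≠ 2) (hprim : ∀ k, 0 < k → k < n → ¬ p ∣ 2 ^ k - 1)
    (L : Subgroup (MulAut V)) (hL : IsPGroup p L) (hL1 : L ≠ ⊥) :
    Group.IsSolvable (normalizer (L : Set (MulAut V))) := by
  have hirr : ∀ τ : MulAut V, τ ^ p = 1 → τ ≠ 1 →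
      ∀ T : Subgroup V, (∀ x ∈ T, τ x ∈ T) → T ≠ ⊥ → T = ⊤ ∧ ∀ x ∈ T, τ x = x → x = 1 := by
    intro τ hτ hτ1 T hT hTb
    have hfix : fixSub τ ≠ ⊤ := fun h => hτ1 (MulEquiv.ext fun x => by
      have : x ∈ fixSub τ := h ▸ mem_top x
      exact this)
    obtain ⟨n', hn', hFc⟩ := card_sub_two_pow hV hn (fixSub τ)
    obtain ⟨a, ha, hTc⟩ := card_sub_two_pow hV hn T
    obtain ⟨i, hi, hIc⟩ := card_sub_two_pow hV hn (T ⊓ fixSub τ)
    have hlt : n' < n := lt_of_le_of_ne hn' fun h => hfix (Subgroup.eq_top_of_card_eq _ (by rw [hFc, h, hn]))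
    have hstep : ∀ {s t : ℕ}, t ≤ n → s < t → 2 ^ s ≡ 2 ^ t [MOD p] → s = 0 ∧ t = n := by
      intro s t ht hst h
      have hd : p ∣ 2 ^ s * (2 ^ (t - s) - 1) := by
        rw [Nat.mul_sub, ← pow_add, Nat.add_sub_cancel' hst.le, mul_one]
        exact (Nat.modEq_iff_dvd' (Nat.pow_le_pow_right (by norm_num) hst.le)).1 h
      rcases (Fact.out : p.Prime).dvd_mul.1 hd with h2 | h2
      · exact absurd ((Nat.prime_dvd_prime_iff_eq Fact.out Nat.prime_two).1
          ((Fact.out : p.Prime).dvd_of_dvd_pow h2)) hp2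
      · by_cases hts : t - s = n
        · omega
        · exact absurd h2 (hprim (t - s) (by omega) (by omega))
    have h1 := fix_modEq p τ hτ T hT
    rw [hIc, hTc] at h1
    have hia : i ≤ a := by
      have := Subgroup.card_le_of_le (inf_le_left : T ⊓ fixSub τ ≤ T)
      rw [hIc, hTc] at this
      exact (Nat.pow_le_pow_iff_right (by norm_num)).1 this
    rcases hia.lt_or_eq with hia' | hia'
    · obtain ⟨rfl, rfl⟩ := hstep ha hia' h1
      refine ⟨Subgroup.eq_top_of_card_eq _ (by rw [hTc, hn]), fun x hx hxf => ?_⟩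
      have hb : T ⊓ fixSub τ = ⊥ := Subgroup.eq_bot_of_card_eq _ (by rw [hIc, pow_zero])
      have : x ∈ T ⊓ fixSub τ := ⟨hx, hxf⟩
      rwa [hb, mem_bot] at this
    · exfalso
      have hTF : T ≤ fixSub τ := inf_eq_left.1
        (Subgroup.eq_of_le_of_card_ge inf_le_left (by rw [hIc, hTc, hia']))
      have h2 := fix_modEq p τ hτ ⊤ (fun _ _ => mem_top _)
      rw [top_inf_eq, hFc, Subgroup.card_top, hn] at h2
      obtain ⟨rfl, -⟩ := hstep le_rfl hlt h2
      exact hTb (le_bot_iff.1 (hTF.trans (Subgroup.eq_bot_of_card_eq _ (by rw [hFc, pow_zero])).le))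
  haveI hcyc : IsCyclic L := cyclic_of_fpf hV hp2 L hL fun τ _ hτ hτ1 v hv => by
    rcases eq_or_ne (⊤ : Subgroup V) ⊥ with h | h
    · exact mem_bot.1 (h ▸ mem_top v)
    · exact (hirr τ hτ hτ1 ⊤ (fun _ _ => mem_top _) h).2 v (mem_top v) hv
  haveI := (Subgroup.nontrivial_iff_ne_bot L).2 hL1
  obtain ⟨m, hm, hcard⟩ := hL.nontrivial_iff_card.1 inferInstance
  obtain ⟨g, hg⟩ := exists_prime_orderOf_dvd_card' (G := L) p (by
    rw [hcard]; exact dvd_pow_self p hm.ne')
  refine solvable_normalizer_of_irr (g := (g : MulAut V)) (fun T hT => ?_) L g.2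
  by_cases hTb : T = ⊥
  · exact Or.inl hTb
  · refine Or.inr (hirr _ ?_ ?_ T hT hTb).1
    · have := pow_orderOf_eq_one g
      rw [hg] at this
      exact congrArg Subtype.val this
    · exact fun h => (Fact.out : p.Prime).one_lt.ne (by
        rw [show g = 1 from Subtype.ext h, orderOf_one] at hg; exact hg)

end CfsgLib.Invol.OutSolv
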