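import Cfsg.Agent.Lib.Invol.OutSolv.Linear

/-!
`Y / X` is solvable for `X` transitive on nonzero vectors and normal in `Y ≤ GL(n,2)`.
-/

set_option autoImplicit false
set_option linter.unusedSectionVars false
set_option linter.style.haveILetI false

namespace CfsgLib.Invol.OutSolv

open Subgroup

universe u

variable {V : Type u} [CommGroup V] [Finite V]

theorem exists_normalizer_lift {X Y : Subgroup (MulAut V)} (hle : X ≤ Y)
    [(X.subgroupOf Y).Normal] {p : ℕ} [Fact p.Prime] :
    ∃ L : Subgroup (MulAut V), L ≤ X ∧ IsPGroup p L ∧ (∀ k, p ^ k ∣ Nat.card X → p ^ k ∣ Nat.card L) ∧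
      ∃ f : ((normalizer (L : Set (MulAut V))).subgroupOf Y) →* (Y ⧸ X.subgroupOf Y),
        Function.Surjective f := by
  obtain ⟨P⟩ : Nonempty (Sylow p (X.subgroupOf Y)) := inferInstance
  let P' : Subgroup Y := (P : Subgroup (X.subgroupOf Y)).map (X.subgroupOf Y).subtype
  let L : Subgroup (MulAut V) := P'.map Y.subtype
  refine ⟨L, ?_, (P.2.map _).map _, fun k hk => ?_, ?_⟩
  · rintro _ ⟨_, ⟨x, -, rfl⟩, rfl⟩
    exact x.2
  · have e : Nat.card L = Nat.card (P : Subgroup (X.subgroupOf Y)) := by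
      rw [Subgroup.card_map_of_injective Y.subtype_injective,
        Subgroup.card_map_of_injective (X.subgroupOf Y).subtype_injective]
    rw [e]
    exact P.pow_dvd_card_of_pow_dvd_card (by
      rwa [Nat.card_congr (Subgroup.subgroupOfEquivOfLe hle).toEquiv])
  refine ⟨(QuotientGroup.mk' (X.subgroupOf Y)).comp (Subgroup.subtype _), fun q => ?_⟩
  obtain ⟨y, rfl⟩ := QuotientGroup.mk'_surjective (X.subgroupOf Y) q
  have h : y ∈ normalizer (P' : Set Y) ⊔ X.subgroupOf Y := by
    rw [Sylow.normalizer_sup_eq_top P]; exact mem_top y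
  obtain ⟨m, hm, x, hx, rfl⟩ := Subgroup.mem_sup_of_normal_right.1 h
  refine ⟨⟨m, ?_⟩, ?_⟩
  · rw [Subgroup.mem_subgroupOf, Subgroup.mem_normalizer_iff]
    intro z
    constructor
    · rintro ⟨w, hw, rfl⟩
      exact ⟨m * w * m⁻¹, (Subgroup.mem_normalizer_iff.1 hm w).1 hw, by simp⟩
    · rintro ⟨w, hw, hwz⟩
      refine ⟨m⁻¹ * w * m, (Subgroup.mem_normalizer_iff.1 hm _).2 ?_, ?_⟩
      · rwa [show m * (m⁻¹ * w * m) * m⁻¹ = w by group]
      · simp only [map_mul, map_inv]
        rw [hwz]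
        simp [mul_assoc]
  · show QuotientGroup.mk' (X.subgroupOf Y) m = QuotientGroup.mk' _ (m * x)
    exact QuotientGroup.eq.2 (by simpa using hx)

theorem solvable_quot_of_normalizer {X Y : Subgroup (MulAut V)} [(X.subgroupOf Y).Normal]
    {L : Subgroup (MulAut V)}
    (f : ((normalizer (L : Set (MulAut V))).subgroupOf Y) →* (Y ⧸ X.subgroupOf Y))
    (hf : Function.Surjective f) (h : Group.IsSolvable (normalizer (L : Set (MulAut V)))) :
    Group.IsSolvable (Y ⧸ X.subgroupOf Y) := by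
  haveI : Group.IsSolvable ((normalizer (L : Set (MulAut V))).subgroupOf Y) :=
    Group.isSolvable_of_isSolvable_injective
      (f := (Y.subtype.comp (Subgroup.subtype _)).codRestrict (normalizer (L : Set (MulAut V)))
        (fun x => x.2))
      (fun a b h => Subtype.ext (Subtype.ext (congrArg Subtype.val h :)))
  exact Group.isSolvable_of_surjective hf

theorem exists_mem_normalizer_order {X Y : Subgroup (MulAut V)} [(X.subgroupOf Y).Normal]
    {L : Subgroup (MulAut V)}
    (f : ((normalizer (L : Set (MulAut V))).subgroupOf Y) →* (Y ⧸ X.subgroupOf Y))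
    (hf : Function.Surjective f) {r : ℕ} [Fact r.Prime] (hr : r ∣ Nat.card (Y ⧸ X.subgroupOf Y)) :
    ∃ σ ∈ normalizer (L : Set (MulAut V)), σ ^ r = 1 ∧ σ ≠ 1 := by
  obtain ⟨s, hs⟩ := exists_prime_orderOf_dvd_card' r
    (hr.trans (Subgroup.card_dvd_of_surjective f hf))
  refine ⟨((s : Y) : MulAut V), s.2, ?_, fun h => ?_⟩
  · have := pow_orderOf_eq_one s
    rw [hs] at this
    exact congrArg (fun a : (normalizer (L : Set (MulAut V))).subgroupOf Y =>
      ((a : Y) : MulAut V)) this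
  · rw [show s = 1 from Subtype.ext (Subtype.ext h), orderOf_one] at hs
    exact (Fact.out : r.Prime).one_lt.ne hs

/-- An element of prime order `r` normalising a `q`-group centralises it if `r` is large. -/
theorem centralizes_of_small {q r : ℕ} [Fact q.Prime] [Fact r.Prime] {L : Subgroup (MulAut V)}
    {k : ℕ} (hk : Nat.card L = q ^ k) (hmod : ∀ i < k, ¬ q ^ i ≡ q ^ k [MOD r]) {σ : MulAut V}
    (hσ : σ ∈ normalizer (L : Set (MulAut V))) (hσr : σ ^ r = 1) :
    ∀ τ ∈ L, Commute σ τ := by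
  set ρ : MulAut L := L.normalizerMonoidHom ⟨σ, hσ⟩ with hρ
  have h1 := fix_modEq r ρ (by
    rw [hρ, ← map_pow, show (⟨σ, hσ⟩ : normalizer (L : Set (MulAut V))) ^ r = 1 from
      Subtype.ext hσr, map_one]) ⊤ (fun _ _ => mem_top _)
  rw [top_inf_eq, Subgroup.card_top, hk] at h1
  obtain ⟨i, hi, hic⟩ := (Nat.dvd_prime_pow (Fact.out : q.Prime)).1
    (hk ▸ (fixSub ρ).card_subgroup_dvd_card)
  rw [hic] at h1
  have htop : fixSub ρ = ⊤ := Subgroup.eq_top_of_card_eq _ (by
    rw [hic, hk]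
    rcases hi.lt_or_eq with h | h
    · exact absurd h1 (hmod i h)
    · rw [h])
  intro τ hτ
  have h2 : ρ ⟨τ, hτ⟩ = ⟨τ, hτ⟩ := mem_fixSub.1 (htop ▸ mem_top _)
  exact mul_inv_eq_iff_eq_mul.1 (congrArg Subtype.val h2)

theorem invariant_fixSub {σ τ : MulAut V} (h : Commute σ τ) :
    ∀ x ∈ fixSub τ, σ x ∈ fixSub τ := by
  intro x hx
  rw [mem_fixSub]
  calc τ (σ x) = σ (τ x) := (DFunLike.congr_fun h x).symm
    _ = σ x := by rw [mem_fixSub.1 hx]

theorem exists_order_in (L : Subgroup (MulAut V)) {q : ℕ} [Fact q.Prime] (h : q ∣ Nat.card L) :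
    ∃ τ ∈ L, τ ^ q = 1 ∧ τ ≠ 1 := by
  obtain ⟨t, ht⟩ := exists_prime_orderOf_dvd_card' (G := L) q h
  refine ⟨t, t.2, ?_, fun h => ?_⟩
  · have := pow_orderOf_eq_one t
    rw [ht] at this
    exact congrArg Subtype.val this
  · rw [show t = 1 from Subtype.ext h, orderOf_one] at ht
    exact (Fact.out : q.Prime).one_lt.ne ht

section Six

theorem prime_cases {r : ℕ} (hr : r.Prime) (hdvd : r ∣ 20158709760) :
    r = 2 ∨ r = 3 ∨ r = 5 ∨ r = 7 ∨ r = 31 := by
  rw [show 20158709760 = 2 ^ 15 * 3 ^ 4 * 5 * 7 ^ 2 * 31 by norm_num] at hdvd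
  have h : ∀ {q : ℕ}, q.Prime → r ∣ q → r = q := fun hq h =>
    (Nat.prime_dvd_prime_iff_eq hr hq).1 h
  rcases hr.dvd_mul.1 hdvd with h1 | h1
  rcases hr.dvd_mul.1 h1 with h1 | h1
  rcases hr.dvd_mul.1 h1 with h1 | h1
  rcases hr.dvd_mul.1 h1 with h1 | h1
  · exact Or.inl (h Nat.prime_two (hr.dvd_of_dvd_pow h1))
  · exact Or.inr (Or.inl (h Nat.prime_three (hr.dvd_of_dvd_pow h1)))
  · exact Or.inr (Or.inr (Or.inl (h (by norm_num) h1)))
  · exact Or.inr (Or.inr (Or.inr (Or.inl (h (by norm_num) (hr.dvd_of_dvd_pow h1)))))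
  · exact Or.inr (Or.inr (Or.inr (Or.inr (h (by norm_num) h1))))

theorem six_big (hV : ∀ v : V, v * v = 1) (h6 : Nat.card V = 2 ^ 6) {L : Subgroup (MulAut V)}
    (hL7 : IsPGroup 7 L) (h7 : 7 ∣ Nat.card L) {r : ℕ} [Fact r.Prime] (hr : r = 5 ∨ r = 31)
    {σ : MulAut V} (hσN : σ ∈ normalizer (L : Set (MulAut V))) (hσr : σ ^ r = 1) (hσ1 : σ ≠ 1) :
    False := by
  haveI : Fact (Nat.Prime 7) := ⟨by norm_num⟩
  obtain ⟨k, hk⟩ := IsPGroup.iff_card.1 hL7
  have hk2 : k ≤ 2 := by
    by_contra h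
    have h1 : 7 ^ 3 ∣ Nat.card (MulAut V) :=
      ((pow_dvd_pow 7 (by omega)).trans (dvd_of_eq hk.symm)).trans (Subgroup.card_subgroup_dvd_card L)
    have h2 := h1.trans (card_mulAut_dvd hV h6)
    norm_num [Finset.prod_range_succ] at h2
  have hc := centralizes_of_small hk (fun i hi => by
    rcases hr with rfl | rfl <;> interval_cases k <;> interval_cases i <;> decide) hσN hσr
  obtain ⟨τ, hτL, hτ7, hτ1⟩ := exists_order_in (q := 7) L h7
  have hcm := hc τ hτL
  have e1 := fix_modEq r σ hσr ⊤ (fun _ _ => mem_top _)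
  have e2 := fix_modEq 7 τ hτ7 ⊤ (fun _ _ => mem_top _)
  have e3 := fix_modEq 7 τ hτ7 (fixSub σ) (invariant_fixSub hcm.symm)
  have e4 := fix_modEq r σ hσr (fixSub τ) (invariant_fixSub hcm)
  rw [top_inf_eq, Subgroup.card_top] at e1 e2
  rw [inf_comm] at e4
  obtain ⟨a, ha, hac⟩ := card_sub_two_pow hV h6 (fixSub σ)
  obtain ⟨c, hc', hcc⟩ := card_sub_two_pow hV h6 (fixSub τ)
  obtain ⟨i, hi, hic⟩ := card_sub_two_pow hV h6 (fixSub σ ⊓ fixSub τ)
  have hia : i ≤ a := by
    have := Subgroup.card_le_of_le (inf_le_left : fixSub σ ⊓ fixSub τ ≤ fixSub σ)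
    rw [hic, hac] at this
    exact (Nat.pow_le_pow_iff_right (by norm_num)).1 this
  rw [hac, h6] at e1
  rw [hcc, h6] at e2
  rw [hic, hac] at e3
  rw [hic, hcc] at e4
  have ha6 : a ≠ 6 := fun h => hσ1 (MulEquiv.ext fun x => by
    have : x ∈ fixSub σ := by
      rw [Subgroup.eq_top_of_card_eq (fixSub σ) (by rw [hac, h, h6])]; exact mem_top x
    exact this)
  have hc6 : c ≠ 6 := fun h => hτ1 (MulEquiv.ext fun x => by
    have : x ∈ fixSub τ := by
      rw [Subgroup.eq_top_of_card_eq (fixSub τ) (by rw [hcc, h, h6])]; exact mem_top x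
    exact this)
  have hic' : i ≤ c := by
    have := Subgroup.card_le_of_le (inf_le_right : fixSub σ ⊓ fixSub τ ≤ fixSub τ)
    rw [hic, hcc] at this
    exact (Nat.pow_le_pow_iff_right (by norm_num)).1 this
  replace ha : a ≤ 5 := by omega
  replace hc' : c ≤ 5 := by omega
  rcases hr with rfl | rfl <;>
    (revert e1 e2 e3 e4; interval_cases a <;> interval_cases c <;> interval_cases i <;> decide)

theorem six_seven (hV : ∀ v : V, v * v = 1) (h6 : Nat.card V = 2 ^ 6) {L : Subgroup (MulAut V)}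
    (hL3 : IsPGroup 3 L) (h9 : 9 ∣ Nat.card L) {σ : MulAut V}
    (hσN : σ ∈ normalizer (L : Set (MulAut V))) (hσr : σ ^ 7 = 1) (hσ1 : σ ≠ 1) :
    Group.IsSolvable (normalizer (L : Set (MulAut V))) := by
  haveI : Fact (Nat.Prime 7) := ⟨by norm_num⟩
  haveI : Fact (Nat.Prime 3) := ⟨by norm_num⟩
  obtain ⟨k, hk⟩ := IsPGroup.iff_card.1 hL3
  have hk4 : k ≤ 4 := by
    by_contra h
    have h1 : 3 ^ 5 ∣ Nat.card (MulAut V) :=
      ((pow_dvd_pow 3 (by omega)).trans (dvd_of_eq hk.symm)).trans (Subgroup.card_subgroup_dvd_card L)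
    have h2 := h1.trans (card_mulAut_dvd hV h6)
    norm_num [Finset.prod_range_succ] at h2
  have hk2 : 2 ≤ k := by
    by_contra h
    rw [hk] at h9
    interval_cases k <;> norm_num at h9
  have hc := centralizes_of_small hk (fun i hi => by
    interval_cases k <;> interval_cases i <;> decide) hσN hσr
  have e1 := fix_modEq 7 σ hσr ⊤ (fun _ _ => mem_top _)
  rw [top_inf_eq, Subgroup.card_top] at e1
  obtain ⟨a, ha, hac⟩ := card_sub_two_pow hV h6 (fixSub σ)
  rw [hac, h6] at e1
  have ha6 : a ≠ 6 := fun h => hσ1 (MulEquiv.ext fun x => by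
    have : x ∈ fixSub σ := by
      rw [Subgroup.eq_top_of_card_eq (fixSub σ) (by rw [hac, h, h6])]; exact mem_top x
    exact this)
  have key : ∀ τ ∈ L, τ ^ 3 = 1 → τ ≠ 1 →
      (a = 0 ∧ fixSub τ = ⊥) ∨ (a = 3 ∧ ∃ x ∈ fixSub σ, τ x ≠ x) := by
    intro τ hτL hτ3 hτ1
    have hcm := hc τ hτL
    have e2 := fix_modEq 3 τ hτ3 ⊤ (fun _ _ => mem_top _)
    have e4 := fix_modEq 7 σ hσr (fixSub τ) (invariant_fixSub hcm)
    rw [top_inf_eq, Subgroup.card_top] at e2
    rw [inf_comm] at e4
    obtain ⟨c, hc', hcc⟩ := card_sub_two_pow hV h6 (fixSub τ)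
    obtain ⟨i, hi, hic⟩ := card_sub_two_pow hV h6 (fixSub σ ⊓ fixSub τ)
    have hia : i ≤ a := by
      have := Subgroup.card_le_of_le (inf_le_left : fixSub σ ⊓ fixSub τ ≤ fixSub σ)
      rw [hic, hac] at this
      exact (Nat.pow_le_pow_iff_right (by norm_num)).1 this
    rw [hcc, h6] at e2
    rw [hic, hcc] at e4
    have hc6 : c ≠ 6 := fun h => hτ1 (MulEquiv.ext fun x => by
      have : x ∈ fixSub τ := by
        rw [Subgroup.eq_top_of_card_eq (fixSub τ) (by rw [hcc, h, h6])]; exact mem_top x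
      exact this)
    have hic' : i ≤ c := by
      have := Subgroup.card_le_of_le (inf_le_right : fixSub σ ⊓ fixSub τ ≤ fixSub τ)
      rw [hic, hcc] at this
      exact (Nat.pow_le_pow_iff_right (by norm_num)).1 this
    have ha' : a ≤ 5 := by omega
    replace hc' : c ≤ 5 := by omega
    have : (a = 0 ∧ c = 0) ∨ (a = 3 ∧ i < a) := by
      revert e1 e2 e4; interval_cases a <;> interval_cases c <;> interval_cases i <;> decide
    rcases this with ⟨h1, h2⟩ | ⟨h1, h2⟩
    · exact Or.inl ⟨h1, Subgroup.eq_bot_of_card_eq _ (by rw [hcc, h2, pow_zero])⟩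
    · refine Or.inr ⟨h1, ?_⟩
      by_contra hall
      push Not at hall
      have hle : fixSub σ ≤ fixSub σ ⊓ fixSub τ := fun x hx => ⟨hx, hall x hx⟩
      have := Subgroup.card_le_of_le hle
      rw [hic, hac] at this
      exact absurd ((Nat.pow_le_pow_iff_right (by norm_num)).1 this) (by omega)
  obtain ⟨τ₀, hτ₀L, hτ₀3, hτ₀1⟩ := exists_order_in (q := 3) L (dvd_trans (by norm_num) h9)
  rcases key τ₀ hτ₀L hτ₀3 hτ₀1 with ⟨ha0, -⟩ | ⟨ha3, -⟩
  · have hfpf : ∀ τ ∈ L, τ ^ 3 = 1 → τ ≠ 1 → ∀ v, τ v = v → v = 1 := by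
      intro τ hτL hτ3 hτ1 v hv
      rcases key τ hτL hτ3 hτ1 with ⟨-, h⟩ | ⟨h, -⟩
      · exact mem_bot.1 (h ▸ (show v ∈ fixSub τ from hv))
      · omega
    haveI := cyclic_of_fpf hV (by norm_num) L hL3 hfpf
    obtain ⟨z, hz⟩ := IsCyclic.exists_ofOrder_eq_natCard (α := L)
    rw [hk] at hz
    set g : L := z ^ 3 ^ (k - 2) with hg
    have hg9 : orderOf g = 9 := by
      rw [hg, orderOf_pow' z (pow_ne_zero _ (by norm_num)), hz,
        Nat.gcd_eq_right (pow_dvd_pow 3 (Nat.sub_le k 2)), Nat.pow_div (Nat.sub_le k 2) (by norm_num),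
        show k - (k - 2) = 2 by omega]
    refine solvable_normalizer_of_irr (g := (g : MulAut V)) (fun T hT => ?_) L g.2
    set η : MulAut V := ((g : MulAut V)) ^ 3 with hη
    have hη3 : η ^ 3 = 1 := by
      rw [hη, ← pow_mul]
      have := pow_orderOf_eq_one g
      rw [hg9] at this
      exact congrArg Subtype.val this
    have hη1 : η ≠ 1 := fun h => by
      have : g ^ 3 = 1 := Subtype.ext h
      have := orderOf_dvd_of_pow_eq_one this
      rw [hg9] at this
      norm_num at this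
    have hTn : ∀ (n : ℕ) (x : V), x ∈ T → ((g : MulAut V) ^ n) x ∈ T := by
      intro n
      induction n with
      | zero => exact fun x hx => hx
      | succ n ih => exact fun x hx => by rw [pow_succ]; exact ih _ (hT x hx)
    letI : MulAction (zpowers g) {x : T // x ≠ 1} :=
      { smul := fun h x => ⟨⟨(((h : L) : MulAut V)) (x.1 : V), by
            obtain ⟨n, hn⟩ := mem_powers_iff_mem_zpowers.2 h.2
            rw [← hn]
            exact hTn n _ x.1.2⟩, fun e => x.2 (Subtype.ext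
              (((h : L) : MulAut V).injective ((congrArg Subtype.val e).trans (map_one _).symm)))⟩
        one_smul := fun _ => Subtype.ext (Subtype.ext rfl)
        mul_smul := fun _ _ _ => Subtype.ext (Subtype.ext rfl) }
    have hfree : ∀ x : {x : T // x ≠ 1}, MulAction.stabilizer (zpowers g) x = ⊥ := by
      intro x
      by_contra hne
      haveI := (Subgroup.nontrivial_iff_ne_bot (MulAction.stabilizer (zpowers g) x)).2 hne
      have hp : IsPGroup 3 (MulAction.stabilizer (zpowers g) x) :=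
        (hL3.to_subgroup _).to_subgroup _
      obtain ⟨m, hm, hcard⟩ := hp.nontrivial_iff_card.1 inferInstance
      obtain ⟨t, ht⟩ := exists_prime_orderOf_dvd_card' (G := MulAction.stabilizer (zpowers g) x) 3
        (by rw [hcard]; exact dvd_pow_self 3 hm.ne')
      have h := t.2
      refine x.2 (Subtype.ext (hfpf (((t : zpowers g) : L) : MulAut V) ((t : zpowers g) : L).2 ?_ ?_ _
        (congrArg (fun y : {x : T // x ≠ 1} => ((y.1 : T) : V)) h)))
      · have := pow_orderOf_eq_one t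
        rw [ht] at this
        exact congrArg (fun a : MulAction.stabilizer (zpowers g) x =>
          (((a : zpowers g) : L) : MulAut V)) this
      · intro e
        rw [show t = 1 from Subtype.ext (Subtype.ext (Subtype.ext e)), orderOf_one] at ht
        omega
    have h9d : 9 ∣ Nat.card {x : T // x ≠ 1} := by
      rw [Nat.card_congr (MulAction.selfEquivOrbitsQuotientProd hfree), Nat.card_prod,
        Nat.card_zpowers, hg9]
      exact dvd_mul_left _ _
    obtain ⟨t, ht, htc⟩ := card_sub_two_pow hV h6 T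
    haveI := Fintype.ofFinite T
    haveI := Classical.decEq T
    rw [Nat.card_eq_fintype_card, Fintype.card_subtype_compl, Fintype.card_subtype_eq,
      ← Nat.card_eq_fintype_card, htc] at h9d
    have : t = 0 ∨ t = 6 := by revert h9d; interval_cases t <;> decide
    rcases this with rfl | rfl
    · exact Or.inl (Subgroup.eq_bot_of_card_eq _ (by rw [htc, pow_zero]))
    · exact Or.inr (Subgroup.eq_top_of_card_eq _ (by rw [htc, h6]))
  · exfalso
    set C := fixSub σ
    have hinv : ∀ h ∈ L, ∀ x ∈ C, h x ∈ C := fun h hh => invariant_fixSub (hc h hh).symm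
    have hinj : Function.Injective (restrict L C hinv) := by
      rw [← MonoidHom.ker_eq_bot_iff]
      by_contra hne
      haveI := (Subgroup.nontrivial_iff_ne_bot (restrict L C hinv).ker).2 hne
      obtain ⟨m, hm, hcard⟩ := (hL3.to_subgroup (restrict L C hinv).ker).nontrivial_iff_card.1
        inferInstance
      obtain ⟨t, ht⟩ := exists_prime_orderOf_dvd_card' (G := (restrict L C hinv).ker) 3
        (by rw [hcard]; exact dvd_pow_self 3 hm.ne')
      have h3 : ((t : L) : MulAut V) ^ 3 = 1 := by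
        have := pow_orderOf_eq_one t
        rw [ht] at this
        exact congrArg (fun a : (restrict L C hinv).ker => ((a : L) : MulAut V)) this
      have h1 : ((t : L) : MulAut V) ≠ 1 := fun e => by
        rw [show t = 1 from Subtype.ext (Subtype.ext e), orderOf_one] at ht
        omega
      rcases key _ (t : L).2 h3 h1 with ⟨h0, -⟩ | ⟨-, x, hx, hne'⟩
      · omega
      · exact hne' (congrArg Subtype.val (DFunLike.congr_fun (MonoidHom.mem_ker.1 t.2) (⟨x, hx⟩ : C)))
    have hCV : ∀ c : C, c * c = 1 := fun c => Subtype.ext (hV c)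
    have h1 := (dvd_trans h9 (Subgroup.card_dvd_of_injective _ hinj)).trans
      (card_mulAut_dvd hCV (show Nat.card C = 2 ^ 3 by rw [hac, ha3]))
    norm_num [Finset.prod_range_succ] at h1

end Six

/-- `Y / X` is solvable when `X` is transitive on nonzero vectors. -/
theorem solvable_quot_of_transitive (hV : ∀ v : V, v * v = 1) {X Y : Subgroup (MulAut V)}
    (hle : X ≤ Y) [(X.subgroupOf Y).Normal]
    (htr : ∀ v w : V, v ≠ 1 → w ≠ 1 → ∃ x ∈ X, x v = w) :
    Group.IsSolvable (Y ⧸ X.subgroupOf Y) := by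
  classical
  obtain ⟨n, hn⟩ := card_two_pow hV
  by_cases hn1 : n ≤ 1
  · have hsub : Subsingleton (MulAut V) := by
      refine ⟨fun a b => MulEquiv.ext fun v => ?_⟩
      by_cases hv : v = 1
      · rw [hv, map_one, map_one]
      by_contra hne
      have h3 : 3 ≤ Nat.card V := by
        have hav : a v ≠ 1 := fun h => hv (a.injective (h.trans (map_one a).symm))
        have hbv : b v ≠ 1 := fun h => hv (b.injective (h.trans (map_one b).symm))
        haveI := Fintype.ofFinite V
        rw [Nat.card_eq_fintype_card]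
        refine le_trans (le_of_eq ?_) (Finset.card_le_univ ({1, a v, b v} : Finset V))
        exact (Finset.card_eq_three.2 ⟨1, a v, b v, hav.symm, hbv.symm, hne, rfl⟩).symm
      have : 2 ^ n ≤ 2 ^ 1 := Nat.pow_le_pow_right (by norm_num) hn1
      omega
    refine Group.isSolvable_of_comm fun a b => ?_
    obtain ⟨a, rfl⟩ := QuotientGroup.mk_surjective a
    obtain ⟨b, rfl⟩ := QuotientGroup.mk_surjective b
    rw [show a = b from Subtype.ext (Subsingleton.elim _ _)]
  have horb : 2 ^ n - 1 ∣ Nat.card X := by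
    haveI : Nontrivial V := by
      refine Finite.one_lt_card_iff_nontrivial.1 ?_
      rw [hn]
      exact Nat.one_lt_pow (by omega) (by norm_num)
    obtain ⟨v, hv⟩ := exists_ne (1 : V)
    have h1 : MulAction.orbit X v = {w : V | w ≠ 1} := by
      ext w
      constructor
      · rintro ⟨x, rfl⟩ h
        exact hv ((x : MulAut V).injective ((show (x : MulAut V) v = 1 from h).trans (map_one _).symm))
      · intro hw
        obtain ⟨x, hx, hxv⟩ := htr v w hv hw
        exact ⟨⟨x, hx⟩, hxv⟩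
    have h2 := (MulAction.stabilizer X v).index_dvd_card
    rw [MulAction.index_stabilizer, h1] at h2
    convert h2 using 1
    have h3 : ({1} : Set V)ᶜ = {w : V | w ≠ 1} := rfl
    rw [← h3, Set.ncard_compl, Set.ncard_singleton, hn]
  by_cases hn6 : n = 6
  · subst hn6
    haveI : Fact (Nat.Prime 3) := ⟨by norm_num⟩
    haveI : Fact (Nat.Prime 7) := ⟨by norm_num⟩
    obtain ⟨L3, -, hL3p, hL3d, f3, hf3⟩ := exists_normalizer_lift hle (p := 3)
    obtain ⟨L7, -, hL7p, hL7d, f7, hf7⟩ := exists_normalizer_lift hle (p := 7)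
    have h9 : 9 ∣ Nat.card L3 := hL3d 2 (dvd_trans (by norm_num) horb)
    have h7 : 7 ∣ Nat.card L7 := by
      simpa using hL7d 1 (dvd_trans (by norm_num) horb)
    by_cases hq7 : 7 ∣ Nat.card (Y ⧸ X.subgroupOf Y)
    · obtain ⟨σ, hσN, hσ, hσ1⟩ := exists_mem_normalizer_order f3 hf3 hq7
      exact solvable_quot_of_normalizer f3 hf3 (six_seven hV hn hL3p h9 hσN hσ hσ1)
    have hQ := (Subgroup.card_quotient_dvd_card (X.subgroupOf Y)).trans
      ((Subgroup.card_subgroup_dvd_card Y).trans (card_mulAut_dvd hV hn))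
    norm_num [Finset.prod_range_succ] at hQ
    set N := Nat.card (Y ⧸ X.subgroupOf Y) with hN
    have hN0 : N ≠ 0 := Nat.card_pos.ne'
    have hsub : N.primeFactors ⊆ {2, 3} := by
      intro r hr
      obtain ⟨hrp, hrd, -⟩ := Nat.mem_primeFactors.1 hr
      haveI := Fact.mk hrp
      rcases prime_cases hrp (hrd.trans hQ) with rfl | rfl | rfl | rfl | rfl
      · simp
      · simp
      · obtain ⟨σ, hσN, hσ, hσ1⟩ := exists_mem_normalizer_order f7 hf7 hrd
        exact (six_big hV hn hL7p h7 (Or.inl rfl) hσN hσ hσ1).elim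
      · exact absurd hrd hq7
      · obtain ⟨σ, hσN, hσ, hσ1⟩ := exists_mem_normalizer_order f7 hf7 hrd
        exact (six_big hV hn hL7p h7 (Or.inr rfl) hσN hσ hσ1).elim
    refine CfsgLib.Char.burnside_pq 2 3 Nat.prime_two Nat.prime_three
      (N.factorization 2) (N.factorization 3) _ ?_
    conv_lhs => rw [← hN, ← Nat.prod_factorization_pow_eq_self hN0]
    rw [Finsupp.prod_of_support_subset _ (show N.factorization.support ⊆ {2, 3} from hsub) _
      (fun i _ => pow_zero i)]
    simp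
  obtain ⟨p, hp, hpd, hprim⟩ := CfsgLib.ClassK.zsigmondy (a := 2) (n := n) (by norm_num) (by omega)
    (by omega) (by
      rintro ⟨-, m, hm⟩
      rcases m with _ | m
      · norm_num at hm
      · rw [pow_succ] at hm; omega)
  haveI := Fact.mk hp
  obtain ⟨L, -, hLp, hLd, f, hf⟩ := exists_normalizer_lift hle (p := p)
  have hp2 : p ≠ 2 := by
    rintro rfl
    have h1 : 2 ^ n = 2 * 2 ^ (n - 1) := by rw [← pow_succ']; congr 1; omega
    have h2 : 0 < 2 ^ (n - 1) := Nat.pow_pos (by norm_num)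
    omega
  refine solvable_quot_of_normalizer f hf (solvable_normalizer_fpf hV hn hp2 hprim L hLp ?_)
  intro h
  have := hLd 1 (by simpa using hpd.trans horb)
  rw [h, Subgroup.card_bot, pow_one] at this
  exact hp.one_lt.ne' (Nat.dvd_one.1 this)

end CfsgLib.Invol.OutSolv
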