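import Cfsg.Agent.Lib.Invol.OutSolv.TwoGroup
import Cfsg.Agent.Lib.Invol.OutSolv.LinearQuot
import Cfsg.Agent.Lib.StructC.OutSolvable

/-!
Solvability of `Out(G)` from small or one-class Sylow 2-subgroups.
-/

set_option autoImplicit false
set_option linter.unusedSectionVars false
set_option linter.style.haveILetI false

namespace CfsgLib.Invol.OutSolv

open Subgroup
open CfsgLib.StructC.OutSolvable (pointFixer stabilizerAut restrictAut)

universe u

theorem solvable_of_extension' {H : Type u} [Group H] (N : Subgroup H) [N.Normal]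
    (h1 : Group.IsSolvable N) (h2 : Group.IsSolvable (H ⧸ N)) : Group.IsSolvable H :=
  CfsgLib.Invol.MetacyclicTwo.solvable_of_extension N h1 h2

theorem solvable_of_dvd_two_primes {H : Type u} [Group H] [Finite H] {p q a b : ℕ} (hp : p.Prime)
    (hq : q.Prime) (h : Nat.card H ∣ p ^ a * q ^ b) : Group.IsSolvable H := by
  obtain ⟨d₁, d₂, h1, h2, he⟩ := Nat.dvd_mul.1 h
  obtain ⟨i, -, rfl⟩ := (Nat.dvd_prime_pow hp).1 h1
  obtain ⟨j, -, rfl⟩ := (Nat.dvd_prime_pow hq).1 h2
  exact CfsgLib.Char.burnside_pq p q hp hq i j H he.symm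

/-- Automorphism groups of a `2`-group with few generators. -/
theorem card_aut_dvd {P : Type u} [Group P] [Finite P] (hP : IsPGroup 2 P) {r : ℕ} (g : Fin r → P)
    (hg : Subgroup.closure (Set.range g) = ⊤) (A : Subgroup (MulAut P)) :
    ∃ j m : ℕ, j ≤ r ∧ Nat.card A ∣ (∏ i ∈ Finset.range j, (2 ^ j - 2 ^ i)) * 2 ^ m := by
  classical
  haveI : Fact (Nat.Prime 2) := ⟨Nat.prime_two⟩
  obtain ⟨j, hj⟩ := IsPGroup.iff_card.1 (hP.to_quotient (frattini P))
  obtain ⟨m, hm⟩ := IsPGroup.iff_card.1 (hP.to_subgroup (frattini P))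
  letI : CommGroup (P ⧸ frattini P) :=
    { (inferInstance : Group (P ⧸ frattini P)) with
      mul_comm := fun a b => by
        induction a using QuotientGroup.induction_on with
        | _ a =>
        induction b using QuotientGroup.induction_on with
        | _ b =>
        rw [← QuotientGroup.mk_mul, ← QuotientGroup.mk_mul, eq_comm, QuotientGroup.eq]
        have h := CfsgLib.StructC.comm_mem_frattini hP a b
        have e : (b * a)⁻¹ * (a * b) = a⁻¹ * b⁻¹ * a * b := by group
        rw [e]; exact h }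
  have hexp : ∀ v : P ⧸ frattini P, v ^ 2 = 1 := fun v => by
    induction v using QuotientGroup.induction_on with
    | _ a => exact (QuotientGroup.eq_one_iff (a ^ 2)).2 (CfsgLib.StructC.pow_mem_frattini hP a)
  have hjr : j ≤ r := by
    let s : (Fin r → Fin 2) → P ⧸ frattini P :=
      fun c => ∏ i, ((g i : P) : P ⧸ frattini P) ^ (c i : ℕ)
    let R : Subgroup (P ⧸ frattini P) :=
      { carrier := Set.range s
        one_mem' := ⟨fun _ => 0, by simp [s]⟩
        mul_mem' := by
          rintro _ _ ⟨c, rfl⟩ ⟨d, rfl⟩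
          refine ⟨fun i => c i + d i, ?_⟩
          simp only [s]
          rw [← Finset.prod_mul_distrib]
          refine Finset.prod_congr rfl fun i _ => ?_
          rw [← pow_add, Fin.val_add]
          exact (pow_eq_pow_mod _ (hexp _)).symm
        inv_mem' := by
          rintro _ ⟨c, rfl⟩
          refine ⟨c, ?_⟩
          rw [eq_comm, inv_eq_iff_mul_eq_one, ← pow_two]
          exact hexp _ }
    have hR : R = ⊤ := by
      refine top_le_iff.1 ?_
      rw [← Subgroup.map_top_of_surjective (QuotientGroup.mk' (frattini P))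
        (QuotientGroup.mk'_surjective _), ← hg, MonoidHom.map_closure, Subgroup.closure_le]
      rintro _ ⟨_, ⟨i, rfl⟩, rfl⟩
      refine ⟨Pi.single i 1, ?_⟩
      simp only [s]
      rw [Finset.prod_eq_single i (fun k _ hk => by rw [Pi.single_eq_of_ne hk]; simp)
        (fun h => absurd (Finset.mem_univ i) h), Pi.single_eq_same]
      simp
    have hs : Function.Surjective s := fun x => (show x ∈ R from hR ▸ mem_top x)
    have h := Nat.card_le_card_of_surjective s hs
    rw [hj, Nat.card_fun, Nat.card_fin, Nat.card_fin] at h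
    exact (Nat.pow_le_pow_iff_right (by norm_num)).1 h
  refine ⟨j, m * j, hjr, ?_⟩
  have hgen : ∀ f : Fin j → P, Subgroup.closure (Set.range f) = ⊤ ↔
      Subgroup.closure (Set.range fun i => (f i : P ⧸ frattini P)) = ⊤ := fun f =>
    ⟨fun h => by
      rw [show (Set.range fun i => (f i : P ⧸ frattini P)) =
        QuotientGroup.mk' (frattini P) '' Set.range f from Set.range_comp _ f,
        ← MonoidHom.map_closure, h]
      exact Subgroup.map_top_of_surjective _ (QuotientGroup.mk'_surjective _),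
     CfsgLib.StructC.closure_eq_top_of_frattini f⟩
  have h := CfsgLib.StructC.card_aut_dvd_card_tuples A
    {f : Fin j → P | Subgroup.closure (Set.range f) = ⊤} (fun α _ f hf => by
      show Subgroup.closure (Set.range fun i => α (f i)) = ⊤
      rw [show (Set.range fun i => α (f i)) = α.toMonoidHom '' Set.range f from Set.range_comp _ f,
        ← MonoidHom.map_closure, show Subgroup.closure (Set.range f) = ⊤ from hf]
      exact Subgroup.map_top_of_surjective _ α.surjective) (fun f hf => hf)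
  rw [show Nat.card {f : Fin j → P | Subgroup.closure (Set.range f) = ⊤} =
      Nat.card {f : Fin j → P // (fun i => (f i : P ⧸ frattini P)) ∈
        {w : Fin j → P ⧸ frattini P | Subgroup.closure (Set.range w) = ⊤}} from
      Nat.card_congr (Equiv.subtypeEquivRight hgen),
    CfsgLib.StructC.card_tuples_mk_mem, hm, ← pow_mul] at h
  rwa [show Nat.card {w : Fin j → P ⧸ frattini P | Subgroup.closure (Set.range w) = ⊤} =
      ∏ i ∈ Finset.range j, (2 ^ j - 2 ^ i) from
    CfsgLib.StructC.card_generating_tuples hP (by rw [Subgroup.index_eq_card, hj])] at h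

variable {G : Type u} [Group G] [Finite G]

/-- Variant of `isSolvable_out`: only the induced group on the Sylow subgroup need be solvable. -/
theorem solvable_out_of_range (hO : ∀ N : Subgroup G, N.Normal → Odd (Nat.card N) → N = ⊥)
    (S : Sylow 2 G) (hS : Group.IsSolvable (restrictAut (S : Subgroup G)).range) :
    Group.IsSolvable (Cfsg.Out G) := by
  haveI : Fact (Nat.Prime 2) := ⟨Nat.prime_two⟩
  haveI := hS
  haveI : Group.IsSolvable (pointFixer (S : Subgroup G)) :=
    CfsgLib.Invol.AutFixSylow.isSolvable_C S _ (fun φ hφ => hφ) hO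
      (fun H _ _ h => CfsgLib.FT.odd_order_solvable h)
  have hle : pointFixer (S : Subgroup G) ≤ stabilizerAut (S : Subgroup G) := by
    intro φ hφ x
    refine ⟨fun h => ?_, fun h => by rw [hφ x h]; exact h⟩
    have h2 : φ (φ x) = φ x := hφ _ h
    rwa [φ.injective h2] at h
  haveI : Group.IsSolvable (stabilizerAut (S : Subgroup G)) :=
    Group.isSolvable_of_ker_le_range (Subgroup.inclusion hle)
      (restrictAut (S : Subgroup G)).rangeRestrict (fun φ hφ => by
        rw [MonoidHom.ker_rangeRestrict] at hφ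
        refine ⟨⟨φ.1, fun s hs => ?_⟩, rfl⟩
        exact congrArg Subtype.val
          (DFunLike.congr_fun (MonoidHom.mem_ker.1 hφ) (⟨s, hs⟩ : (S : Subgroup G))))
  refine Group.isSolvable_of_surjective (f := (QuotientGroup.mk' (Cfsg.Inn G)).comp
    (stabilizerAut (S : Subgroup G)).subtype) fun q => ?_
  obtain ⟨φ, rfl⟩ := QuotientGroup.mk'_surjective (Cfsg.Inn G) q
  let S' : Sylow 2 G := S.comapOfInjective φ.toMonoidHom φ.injective
    (fun x _ => ⟨φ.symm x, φ.apply_symm_apply x⟩)
  obtain ⟨g, hg⟩ := MulAction.exists_smul_eq G S S'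
  refine ⟨⟨φ * MulAut.conj g, fun x => ?_⟩, ?_⟩
  · have h1 : g * x * g⁻¹ ∈ (S' : Subgroup G) ↔ x ∈ (S : Subgroup G) := by
      rw [← hg, Sylow.coe_subgroup_smul, ← MulAut.conj_apply, ← MulAut.smul_def,
        Subgroup.smul_mem_pointwise_smul_iff]
    exact h1
  · show QuotientGroup.mk' (Cfsg.Inn G) (φ * MulAut.conj g) = _
    rw [map_mul]
    simp only [QuotientGroup.mk'_apply]
    rw [(QuotientGroup.eq_one_iff (MulAut.conj g : MulAut G)).2 (MonoidHom.mem_range.2 ⟨g, rfl⟩),
      mul_one]

/-- Conjugation by normalizing elements, as automorphisms stabilizing the subgroup. -/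
def conjStab (S : Subgroup G) : normalizer (S : Set G) →* stabilizerAut S where
  toFun n := ⟨MulAut.conj (n : G), fun x => (Subgroup.mem_normalizer_iff.1 n.2 x).symm⟩
  map_one' := Subtype.ext (map_one MulAut.conj)
  map_mul' a b := Subtype.ext (map_mul MulAut.conj _ _)

theorem normalizer_map_mem {S : Subgroup G} {α : MulAut G} (hα : α ∈ stabilizerAut S) {n : G}
    (hn : n ∈ normalizer (S : Set G)) : α n ∈ normalizer (S : Set G) := by
  rw [Subgroup.mem_normalizer_iff]
  intro x
  obtain ⟨y, rfl⟩ := α.surjective x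
  rw [← map_inv, ← map_mul, ← map_mul, hα, hα]
  exact Subgroup.mem_normalizer_iff.1 hn y

theorem solvable_normalizer_sylow (S : Sylow 2 G) :
    Group.IsSolvable (normalizer ((S : Subgroup G) : Set G)) := by
  haveI : Fact (Nat.Prime 2) := ⟨Nat.prime_two⟩
  exact CfsgLib.Recog.GenDihedral.isSolvable_of_normal_sylow (S.subtype Subgroup.le_normalizer)
    (by rw [Sylow.coe_subtype]; infer_instance)

theorem range_solvable_two_gen (S : Sylow 2 G)
    (h : ∃ a b : ↥(S : Subgroup G), Subgroup.closure ({a, b} : Set ↥(S : Subgroup G)) = ⊤) :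
    Group.IsSolvable (restrictAut (S : Subgroup G)).range := by
  obtain ⟨a, b, hab⟩ := h
  obtain ⟨j, m, hj, hd⟩ := card_aut_dvd S.2 ![a, b] (by
    rw [← hab, Matrix.range_cons, Matrix.range_cons, Matrix.range_empty, Set.union_empty,
      Set.singleton_union]) (restrictAut (S : Subgroup G)).range
  refine solvable_of_dvd_two_primes (a := 1 + m) (b := 1) Nat.prime_two Nat.prime_three
    (hd.trans ?_)
  interval_cases j
  · rw [Finset.prod_range_zero, one_mul, pow_add]
    exact Dvd.intro (2 ^ 1 * 3 ^ 1) (by ring)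
  · rw [pow_add]; exact Dvd.intro (2 ^ 1 * 3 ^ 1) (by norm_num [Finset.prod_range_succ]; ring)
  · rw [pow_add]; exact Dvd.intro 1 (by norm_num [Finset.prod_range_succ]; ring)

theorem range_solvable_three_gen (S : Sylow 2 G)
    (h : ∃ a b c : ↥(S : Subgroup G),
      Subgroup.closure ({a, b, c} : Set ↥(S : Subgroup G)) = ⊤)
    (hg : ∃ g ∈ normalizer ((S : Subgroup G) : Set G), Odd (orderOf g) ∧
      g ∉ centralizer ((S : Subgroup G) : Set G)) :
    Group.IsSolvable (restrictAut (S : Subgroup G)).range := by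
  obtain ⟨a, b, c, habc⟩ := h
  obtain ⟨g, hgN, hgo, hgC⟩ := hg
  set Y := (restrictAut (S : Subgroup G)).range with hY
  set ψ : normalizer ((S : Subgroup G) : Set G) →* Y :=
    (restrictAut (S : Subgroup G)).rangeRestrict.comp (conjStab (S : Subgroup G)) with hψ
  set E := ψ.range with hE
  haveI hEs : Group.IsSolvable E := by
    haveI := solvable_normalizer_sylow S
    exact Group.isSolvable_of_surjective ψ.rangeRestrict_surjective
  haveI : E.Normal := by
    constructor
    rintro _ ⟨n, rfl⟩ ⟨_, α, rfl⟩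
    refine ⟨⟨(α : MulAut G) n, normalizer_map_mem α.2 n.2⟩, ?_⟩
    refine Subtype.ext (MulEquiv.ext fun x => Subtype.ext ?_)
    show (α : MulAut G) n * x * ((α : MulAut G) n)⁻¹ =
      (α : MulAut G) ((n : G) * ((α : MulAut G)⁻¹ (x : G)) * (n : G)⁻¹)
    rw [map_mul, map_mul, map_inv, MulAut.apply_inv_self]
  obtain ⟨j, m, hj, hd⟩ := card_aut_dvd S.2 ![a, b, c] (by
    rw [← habc, Matrix.range_cons, Matrix.range_cons, Matrix.range_cons, Matrix.range_empty,
      Set.union_empty, Set.singleton_union, Set.singleton_union]) Y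
  have hd21 : Nat.card Y ∣ 2 ^ (3 + m) * 21 := by
    refine hd.trans ?_
    interval_cases j <;> rw [pow_add]
    · exact Dvd.intro 168 (by norm_num [Finset.prod_range_succ]; ring)
    · exact Dvd.intro 168 (by norm_num [Finset.prod_range_succ]; ring)
    · exact Dvd.intro 28 (by norm_num [Finset.prod_range_succ]; ring)
    · exact Dvd.intro 1 (by norm_num [Finset.prod_range_succ]; ring)
  set e : E := ψ.rangeRestrict ⟨g, hgN⟩ with he
  have he1 : orderOf e ≠ 1 := by
    rw [Ne, orderOf_eq_one_iff]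
    intro h1
    refine hgC (Subgroup.mem_centralizer_iff.2 fun s hs => ?_)
    have h2 : g * s * g⁻¹ = s := congrArg Subtype.val
      (DFunLike.congr_fun (congrArg (fun y : E => ((y : Y) : MulAut (S : Subgroup G))) h1)
        (⟨s, hs⟩ : (S : Subgroup G)))
    exact (mul_inv_eq_iff_eq_mul.1 h2).symm
  have heo : Odd (orderOf e) := by
    refine hgo.of_dvd_nat ?_
    rw [← Subgroup.orderOf_mk g hgN]
    exact orderOf_map_dvd ψ.rangeRestrict _
  have hed : orderOf e ∣ 21 := by
    refine Nat.Coprime.dvd_of_dvd_mul_left ?_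
      (((orderOf_dvd_natCard e).trans (Subgroup.card_subgroup_dvd_card E)).trans hd21)
    exact (Nat.coprime_two_right.2 heo).pow_right _
  have hq : Nat.card (Y ⧸ E) * Nat.card E ∣ 2 ^ (3 + m) * 21 := by
    rwa [← Subgroup.card_eq_card_quotient_mul_card_subgroup]
  have h37 : 3 ∣ Nat.card E ∨ 7 ∣ Nat.card E := by
    have h1 := orderOf_dvd_natCard e
    have : orderOf e ∈ Nat.divisors 21 := Nat.mem_divisors.2 ⟨hed, by norm_num⟩
    have h21 : orderOf e = 1 ∨ orderOf e = 3 ∨ orderOf e = 7 ∨ orderOf e = 21 := by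
      revert this
      generalize orderOf e = o
      intro h
      have : o ∈ ({1, 3, 7, 21} : Finset ℕ) := by
        rw [show ({1, 3, 7, 21} : Finset ℕ) = Nat.divisors 21 by decide]; exact h
      simpa using this
    rcases h21 with h' | h' | h' | h'
    · exact absurd h' he1
    · exact Or.inl (h' ▸ h1)
    · exact Or.inr (h' ▸ h1)
    · exact Or.inl ((show 3 ∣ 21 by norm_num).trans (h' ▸ h1))
  refine solvable_of_extension' E hEs ?_
  rcases h37 with h3 | h7
  · refine solvable_of_dvd_two_primes (a := 3 + m) (b := 1) Nat.prime_two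
      (show Nat.Prime 7 by norm_num) ?_
    have h1 := (mul_dvd_mul_left _ h3).trans hq
    rw [show 2 ^ (3 + m) * 21 = 2 ^ (3 + m) * 7 ^ 1 * 3 by ring] at h1
    exact Nat.dvd_of_mul_dvd_mul_right (by norm_num) h1
  · refine solvable_of_dvd_two_primes (a := 3 + m) (b := 1) Nat.prime_two Nat.prime_three ?_
    have h1 := (mul_dvd_mul_left _ h7).trans hq
    rw [show 2 ^ (3 + m) * 21 = 2 ^ (3 + m) * 3 ^ 1 * 7 by ring] at h1
    exact Nat.dvd_of_mul_dvd_mul_right (by norm_num) h1

section OneClass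

variable (S : Sylow 2 G)

/-- Restriction to an abelian subgroup. -/
theorem range_solvable_one_class
    (hcomm : ∀ s ∈ S, ∀ t ∈ S, orderOf s = 2 → orderOf t = 2 → s * t = t * s)
    (hconj : ∀ s ∈ S, ∀ t ∈ S, orderOf s = 2 → orderOf t = 2 → ∃ g : G, g * s * g⁻¹ = t) :
    Group.IsSolvable (restrictAut (S : Subgroup G)).range := by
  classical
  haveI : Fact (Nat.Prime 2) := ⟨Nat.prime_two⟩
  have hord : ∀ x : G, x * x = 1 → x ≠ 1 → orderOf x = 2 := fun x hx hx1 =>
    orderOf_eq_prime (by rw [pow_two]; exact hx) hx1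
  have hcomm' : ∀ s ∈ (S : Subgroup G), ∀ t ∈ (S : Subgroup G), s * s = 1 → t * t = 1 →
      s * t = t * s := by
    intro s hs t ht hs2 ht2
    by_cases hs1 : s = 1
    · rw [hs1, one_mul, mul_one]
    by_cases ht1 : t = 1
    · rw [ht1, one_mul, mul_one]
    exact hcomm s hs t ht (hord s hs2 hs1) (hord t ht2 ht1)
  let V : Subgroup G :=
    { carrier := {x | x ∈ (S : Subgroup G) ∧ x * x = 1}
      one_mem' := ⟨one_mem _, one_mul _⟩
      mul_mem' := fun {a b} ha hb => ⟨mul_mem ha.1 hb.1, by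
        rw [show a * b * (a * b) = a * (b * a) * b by group,
          ← hcomm' a ha.1 b hb.1 ha.2 hb.2, ← mul_assoc, ha.2, one_mul, hb.2]⟩
      inv_mem' := fun {a} ha => ⟨inv_mem ha.1, by rw [← mul_inv_rev, ha.2, inv_one]⟩ }
  have hVS : V ≤ (S : Subgroup G) := fun x hx => hx.1
  letI : CommGroup V :=
    { (inferInstance : Group V) with
      mul_comm := fun a b => Subtype.ext (hcomm' a a.2.1 b b.2.1 a.2.2 b.2.2) }
  have hV2 : ∀ v : V, v * v = 1 := fun v => Subtype.ext v.2.2
  have hmove : ∀ (α : MulAut G), α ∈ stabilizerAut (S : Subgroup G) → ∀ x, α x ∈ V ↔ x ∈ V := by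
    intro α hα x
    constructor
    · rintro ⟨h1, h2⟩
      exact ⟨(hα x).1 h1, α.injective (by rw [map_mul, h2, map_one])⟩
    · rintro ⟨h1, h2⟩
      exact ⟨(hα x).2 h1, by rw [← map_mul, h2, map_one]⟩
  -- conjugate transitively inside the normalizer
  have hweak : ∀ (W : Subgroup G) (T : Sylow 2 G), W ≤ (T : Subgroup G) →
      (∀ x ∈ W, x * x = 1) → Nat.card W = Nat.card V → ∀ h : G, h • S = T →
      W = V.map (MulAut.conj h).toMonoidHom := by
    intro W T hWT hW2 hWc h hh
    refine Subgroup.eq_of_le_of_card_ge (fun x hx => ?_)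
      (by rw [Subgroup.card_map_of_injective (MulAut.conj h).injective, hWc])
    have hx' : x ∈ ((h • S : Sylow 2 G) : Subgroup G) := hh ▸ hWT hx
    rw [Sylow.coe_subgroup_smul, Subgroup.mem_pointwise_smul_iff_inv_smul_mem, MulAut.smul_def,
      MulAut.conj_inv_apply] at hx'
    refine ⟨h⁻¹ * x * h, ⟨hx', ?_⟩, by simp [mul_assoc]⟩
    rw [show h⁻¹ * x * h * (h⁻¹ * x * h) = h⁻¹ * (x * x) * h by group, hW2 x hx]; group
  have htrans : ∀ v w : V, v ≠ 1 → w ≠ 1 →
      ∃ n ∈ normalizer (V : Set G), n * (v : G) * n⁻¹ = w := by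
    intro v w hv hw
    obtain ⟨g, hg⟩ := hconj v v.2.1 w w.2.1 (hord _ v.2.2 fun h => hv (Subtype.ext h))
      (hord _ w.2.2 fun h => hw (Subtype.ext h))
    set C := centralizer ({(w : G)} : Set G)
    set Vg := V.map (MulAut.conj g).toMonoidHom with hVg
    have hVC : V ≤ C := fun x hx => Subgroup.mem_centralizer_singleton_iff.2
      (hcomm' x hx.1 w w.2.1 hx.2 w.2.2)
    have hVgC : Vg ≤ C := by
      rintro _ ⟨x, hx, rfl⟩
      refine Subgroup.mem_centralizer_singleton_iff.2 ?_
      show g * x * g⁻¹ * (w : G) = (w : G) * (g * x * g⁻¹)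
      rw [← hg]
      calc g * x * g⁻¹ * (g * (v : G) * g⁻¹) = g * (x * v) * g⁻¹ := by group
        _ = g * ((v : G) * x) * g⁻¹ := by rw [hcomm' x hx.1 v v.2.1 hx.2 v.2.2]
        _ = _ := by group
    have hV' : IsPGroup 2 V := S.2.to_le hVS
    obtain ⟨R₁, hR₁⟩ := (hV'.of_equiv (subgroupOfEquivOfLe hVC).symm).exists_le_sylow
    obtain ⟨R₂, hR₂⟩ := ((hV'.map (MulAut.conj g).toMonoidHom).of_equiv
      (subgroupOfEquivOfLe hVgC).symm).exists_le_sylow
    obtain ⟨c, hc⟩ := MulAction.exists_smul_eq C R₂ R₁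
    set W := Vg.map (MulAut.conj (c : G)).toMonoidHom with hW
    obtain ⟨T, hT⟩ := (R₁.2.map C.subtype).exists_le_sylow
    obtain ⟨h, hh⟩ := MulAction.exists_smul_eq G S T
    have hWT : W ≤ (T : Subgroup G) := by
      rintro _ ⟨x, hx, rfl⟩
      refine hT ⟨c * ⟨x, hVgC hx⟩ * c⁻¹, ?_, rfl⟩
      rw [← hc]
      show _ ∈ ((c • R₂ : Sylow 2 C) : Subgroup C)
      rw [Sylow.coe_subgroup_smul, Subgroup.mem_pointwise_smul_iff_inv_smul_mem, MulAut.smul_def,
        MulAut.conj_inv_apply, show c⁻¹ * (c * ⟨x, hVgC hx⟩ * c⁻¹) * c = ⟨x, hVgC hx⟩ by group]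
      exact hR₂ (Subgroup.mem_subgroupOf.2 hx)
    have hVT : V ≤ (T : Subgroup G) := fun x hx =>
      hT ⟨⟨x, hVC hx⟩, hR₁ (Subgroup.mem_subgroupOf.2 hx), rfl⟩
    have hW2 : ∀ x ∈ W, x * x = 1 := by
      rintro _ ⟨_, ⟨x, hx, rfl⟩, rfl⟩
      rw [← map_mul, ← map_mul, hx.2, map_one, map_one]
    have e1 := hweak V T hVT (fun x hx => hx.2) rfl h hh
    have e2 := hweak W T hWT hW2 (by
      rw [hW, Subgroup.card_map_of_injective (MulAut.conj (c : G)).injective, hVg,
        Subgroup.card_map_of_injective (MulAut.conj g).injective]) h hh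
    refine ⟨(c : G) * g, ?_, ?_⟩
    · rw [Subgroup.mem_normalizer_iff]
      intro x
      have hWV : W = V := e2.trans e1.symm
      constructor
      · intro hx
        have : (MulAut.conj (c : G)).toMonoidHom ((MulAut.conj g).toMonoidHom x) ∈ W :=
          ⟨_, ⟨x, hx, rfl⟩, rfl⟩
        rw [hWV] at this
        simpa [mul_assoc] using this
      · intro hx
        rw [← hWV] at hx
        obtain ⟨_, ⟨y, hy, rfl⟩, hy'⟩ := hx
        have : y = x := by
          simp only [MulEquiv.coe_toMonoidHom, MulAut.conj_apply] at hy'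
          refine mul_left_cancel (a := (c : G) * g) (mul_right_cancel (b := ((c : G) * g)⁻¹) ?_)
          rw [← hy']; group
        exact this ▸ hy
    · rw [show (c : G) * g * (v : G) * ((c : G) * g)⁻¹ = (c : G) * (g * v * g⁻¹) * (c : G)⁻¹ by group,
        hg, Subgroup.mem_centralizer_singleton_iff.1 c.2, mul_inv_cancel_right]
  -- the group induced on `V`
  let ρV := restrictAut V
  let X : Subgroup (MulAut V) := (ρV.comp (conjStab V)).range
  let Y : Subgroup (MulAut V) := ρV.range
  have hXY : X ≤ Y := by rintro _ ⟨n, rfl⟩; exact ⟨_, rfl⟩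
  haveI : (X.subgroupOf Y).Normal := by
    constructor
    rintro ⟨_, -⟩ ⟨n, rfl⟩ ⟨_, α, rfl⟩
    refine ⟨⟨(α : MulAut G) n, normalizer_map_mem α.2 n.2⟩, ?_⟩
    refine MulEquiv.ext fun x => Subtype.ext ?_
    show (α : MulAut G) n * x * ((α : MulAut G) n)⁻¹ =
      (α : MulAut G) ((n : G) * ((α : MulAut G)⁻¹ (x : G)) * (n : G)⁻¹)
    rw [map_mul, map_mul, map_inv, MulAut.apply_inv_self]
  haveI hquot : Group.IsSolvable (Y ⧸ X.subgroupOf Y) :=
    solvable_quot_of_transitive hV2 hXY fun v w hv hw => by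
      obtain ⟨n, hn, hnv⟩ := htrans v w hv hw
      exact ⟨_, ⟨⟨n, hn⟩, rfl⟩, Subtype.ext hnv⟩
  -- the image of the Sylow subgroup
  have hSN : (S : Subgroup G) ≤ normalizer (V : Set G) := fun s hs => by
    rw [Subgroup.mem_normalizer_iff]
    intro x
    exact ((hmove (MulAut.conj s) (fun y => ⟨fun h => by
      have := mul_mem (mul_mem (inv_mem hs) h) hs
      rwa [show s⁻¹ * (MulAut.conj s) y * s = y by rw [MulAut.conj_apply]; group] at this,
      fun h => mul_mem (mul_mem hs h) (inv_mem hs)⟩) x)).symm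
  let SX : Sylow 2 X := (S.subtype hSN).mapSurjective (f := (ρV.comp (conjStab V)).rangeRestrict)
    (MonoidHom.rangeRestrict_surjective _)
  haveI hNX : Group.IsSolvable (normalizer ((SX : Subgroup X) : Set X)) :=
    solvable_normalizer_sylow SX
  let f : stabilizerAut (S : Subgroup G) →* Y := ρV.rangeRestrict.comp
    (Subgroup.inclusion (fun α hα => hmove α hα : stabilizerAut (S : Subgroup G) ≤ stabilizerAut V))
  haveI hf : Group.IsSolvable f.range := by
    let π : f.range →* Y ⧸ X.subgroupOf Y := (QuotientGroup.mk' _).comp f.range.subtype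
    refine solvable_of_range_ker π inferInstance ?_
    have hk : ∀ a : π.ker, ((a : f.range) : Y).1 ∈ X := fun a =>
      (QuotientGroup.eq_one_iff ((a : f.range) : Y)).1 (MonoidHom.mem_ker.1 a.2)
    let ι : π.ker →* X := (Y.subtype.comp (f.range.subtype.comp π.ker.subtype)).codRestrict X hk
    have hι : ∀ a, ι a ∈ normalizer ((SX : Subgroup X) : Set X) := by
      intro a
      obtain ⟨α, hα⟩ := (a : f.range).2
      have hfwd : ∀ (β : stabilizerAut (S : Subgroup G)) (b : X), b.1 = (f β : Y).1 →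
          ∀ x ∈ (SX : Subgroup X), b * x * b⁻¹ ∈ (SX : Subgroup X) := by
        intro β b hb x hx
        obtain ⟨s, hs, rfl⟩ := hx
        refine ⟨⟨(β : MulAut G) s, hSN ((β.2 s).2 hs)⟩, (β.2 s).2 hs, ?_⟩
        refine Subtype.ext (MulEquiv.ext fun v => Subtype.ext ?_)
        show (β : MulAut G) s * v * ((β : MulAut G) s)⁻¹ = _
        rw [Subgroup.coe_mul, Subgroup.coe_mul, Subgroup.coe_inv, hb]
        show _ = (β : MulAut G) ((s : G) * ((β : MulAut G)⁻¹ (v : G)) * (s : G)⁻¹)
        rw [map_mul, map_mul, map_inv, MulAut.apply_inv_self]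
      have hval : (ι a).1 = (f α : Y).1 := (congrArg Subtype.val hα).symm
      rw [Subgroup.mem_normalizer_iff]
      intro x
      refine ⟨hfwd α _ hval x, fun h => ?_⟩
      have h2 := hfwd α⁻¹ (ι a)⁻¹ (by rw [map_inv, Subgroup.coe_inv, Subgroup.coe_inv, hval]) _ h
      rw [show (ι a)⁻¹ * (ι a * x * (ι a)⁻¹) * (ι a)⁻¹⁻¹ = x by group] at h2
      exact h2
    exact Group.isSolvable_of_isSolvable_injective
      (f := ι.codRestrict (normalizer ((SX : Subgroup X) : Set X)) hι)
      (fun a b h => Subtype.ext (Subtype.ext (Subtype.ext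
        (congrArg (fun y : normalizer ((SX : Subgroup X) : Set X) => (y : X).1) h :))))
  -- the group induced on `S`
  let V' : Subgroup ↥(S : Subgroup G) := V.subgroupOf S
  set A := (restrictAut (S : Subgroup G)).range with hA
  have hV'inv : ∀ k ∈ A, ∀ x ∈ V', k x ∈ V' := by
    rintro _ ⟨α, rfl⟩ x hx
    exact (hmove α α.2 x).2 hx
  haveI : Group.IsSolvable (restrict A V' hV'inv).range := by
    let e : MulAut V →* MulAut V' :=
      (MulAut.congr (subgroupOfEquivOfLe hVS).symm).toMonoidHom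
    haveI : Group.IsSolvable (f.range.map (e.comp Y.subtype)) :=
      Group.isSolvable_of_surjective ((e.comp Y.subtype).subgroupMap_surjective f.range)
    refine Group.isSolvable_of_isSolvable_injective
      (f := Subgroup.inclusion (?_ : (restrict A V' hV'inv).range ≤ f.range.map (e.comp Y.subtype)))
      (Subgroup.inclusion_injective _)
    rintro _ ⟨⟨_, α, rfl⟩, rfl⟩
    exact ⟨f α, ⟨α, rfl⟩, MulEquiv.ext fun x => rfl⟩
  refine solvable_of_range_ker (restrict A V' hV'inv) inferInstance (solvable_ker_of A _ ?_)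
  set K := ((restrict A V' hV'inv).ker).map A.subtype with hK
  have hKfix : ∀ k ∈ K, ∀ v ∈ V', k v = v := by
    rintro _ ⟨k, hk, rfl⟩ v hv
    exact congrArg Subtype.val (DFunLike.congr_fun (MonoidHom.mem_ker.1 hk) (⟨v, hv⟩ : V'))
  let U : Subgroup ↥(S : Subgroup G) := centralizer (V' : Set ↥(S : Subgroup G))
  have hmemV' : ∀ {x : ↥(S : Subgroup G)}, x ∈ V' ↔ x * x = 1 := fun {x} =>
    ⟨fun h => Subtype.ext h.2, fun h => ⟨x.2, congrArg Subtype.val h⟩⟩
  have hUinv : ∀ k ∈ K, ∀ x ∈ U, k x ∈ U := by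
    intro k hk x hx
    refine Subgroup.mem_centralizer_iff.2 fun v hv => ?_
    rw [← hKfix k hk v hv, ← map_mul, ← map_mul, Subgroup.mem_centralizer_iff.1 hx v hv]
  have hV'U : V' ≤ U := fun x hx => Subgroup.mem_centralizer_iff.2 fun v hv =>
    Subtype.ext (hcomm' v v.2 x x.2 (hv : (v : G) ∈ V).2 (hx : (x : G) ∈ V).2)
  haveI : Group.IsSolvable (restrict K U hUinv).range :=
    solvable_fix_involutions ((S.2.to_subgroup U)) (fun x hx => Subgroup.mem_center_iff.2 fun y =>
      Subtype.ext (Subgroup.mem_centralizer_iff.1 y.2 x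
        (hmemV'.2 (congrArg Subtype.val hx))).symm) _ (by
      rintro _ ⟨k, rfl⟩ x hx
      exact Subtype.ext (hKfix k k.2 x (hmemV'.2 (congrArg Subtype.val hx))))
  refine solvable_of_range_ker (restrict K U hUinv) inferInstance
    (solvable_ker_of K _ (solvable_of_stability _ (U ⊓ centralizer (U : Set ↥(S : Subgroup G)))
      (fun a ha b hb => Subgroup.mem_centralizer_iff.1 hb.2 a ha.1) ?_ ?_))
  · rintro _ ⟨k, hk, rfl⟩ z hz
    exact congrArg Subtype.val (DFunLike.congr_fun (MonoidHom.mem_ker.1 hk) (⟨z, hz.1⟩ : U))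
  · rintro _ ⟨k, hk, rfl⟩ x
    have hfix : ∀ c ∈ U, (k : MulAut ↥(S : Subgroup G)) c = c := fun c hc =>
      congrArg Subtype.val (DFunLike.congr_fun (MonoidHom.mem_ker.1 hk) (⟨c, hc⟩ : U))
    have hUn : ∀ c ∈ U, x * c * x⁻¹ ∈ U := by
      intro c hc
      refine Subgroup.mem_centralizer_iff.2 fun v hv => ?_
      have hv' : x⁻¹ * v * x ∈ V' := hmemV'.2 (by
        rw [show x⁻¹ * v * x * (x⁻¹ * v * x) = x⁻¹ * (v * v) * x by group, hmemV'.1 hv]; group)
      have h := Subgroup.mem_centralizer_iff.1 hc _ hv'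
      calc v * (x * c * x⁻¹) = x * ((x⁻¹ * v * x) * c) * x⁻¹ := by group
        _ = x * (c * (x⁻¹ * v * x)) * x⁻¹ := by rw [h]
        _ = _ := by group
    have hmem : x⁻¹ * (k : MulAut ↥(S : Subgroup G)) x ∈
        centralizer (U : Set ↥(S : Subgroup G)) := by
      refine Subgroup.mem_centralizer_iff.2 fun c hc => ?_
      have h1 := hfix _ (hUn c hc)
      rw [map_mul, map_mul, map_inv, hfix c hc] at h1
      calc c * (x⁻¹ * (k : MulAut ↥(S : Subgroup G)) x)
          = x⁻¹ * (x * c * x⁻¹) * (k : MulAut ↥(S : Subgroup G)) x := by group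
        _ = x⁻¹ * ((k : MulAut ↥(S : Subgroup G)) x * c *
              ((k : MulAut ↥(S : Subgroup G)) x)⁻¹) * (k : MulAut ↥(S : Subgroup G)) x := by rw [h1]
        _ = x⁻¹ * (k : MulAut ↥(S : Subgroup G)) x * c := by group
    refine ⟨Subgroup.mem_centralizer_iff.2 fun v hv => ?_, hmem⟩
    exact Subgroup.mem_centralizer_iff.1 hmem v (hV'U hv)

end OneClass

end CfsgLib.Invol.OutSolv
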