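import Cfsg.Agent.Lib.Invol.OutSolv.Anisotropic
import Cfsg.Agent.Lib.Transfer.PGroupNormal
import Cfsg.Agent.Lib.StructC.BurnsideBasis

/-!
If every involution of a finite 2-group is central, the automorphisms fixing all involutions form
a solvable group.
-/

set_option autoImplicit false
set_option linter.style.haveILetI false

namespace CfsgLib.Invol.OutSolv

open Subgroup
open scoped commutatorElement

universe u

theorem solvable_fix_abelian_aux : ∀ (n : ℕ) {Z : Type u} [CommGroup Z] [Finite Z],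
    Nat.card Z = n → IsPGroup 2 Z → ∀ K : Subgroup (MulAut Z),
      (∀ k ∈ K, ∀ z : Z, z * z = 1 → k z = z) → Group.IsSolvable K := by
  intro n
  induction n using Nat.strong_induction_on with
  | _ n ih =>
  intro Z _ _ hn hZ K hK
  classical
  haveI : Fact (Nat.Prime 2) := ⟨Nat.prime_two⟩
  rcases subsingleton_or_nontrivial Z with hs | hs
  · refine Group.isSolvable_of_comm fun a c => Subtype.ext (MulEquiv.ext fun x => ?_)
    exact Subsingleton.elim _ _
  let sq : Z →* Z := powMonoidHom 2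
  let M : Subgroup Z := sq.range
  have hM : M ≠ ⊤ := by
    intro h
    have hinj : Function.Injective sq :=
      Finite.injective_iff_surjective.2 (MonoidHom.range_eq_top.1 h)
    obtain ⟨m, hm, hc⟩ := hZ.nontrivial_iff_card.1 hs
    obtain ⟨z, hz⟩ := exists_prime_orderOf_dvd_card' (G := Z) 2 (by
      rw [hc]; exact dvd_pow_self 2 hm.ne')
    have h1 : sq z = sq 1 := by
      rw [map_one]
      show z ^ 2 = 1
      rw [← hz]; exact pow_orderOf_eq_one z
    rw [hinj h1, orderOf_one] at hz
    omega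
  have hMinv : ∀ k ∈ K, ∀ x ∈ M, k x ∈ M := by
    rintro k - _ ⟨x, rfl⟩
    exact ⟨k x, by show (k x) ^ 2 = k (x ^ 2); rw [map_pow]⟩
  haveI : Group.IsSolvable (restrict K M hMinv).range :=
    ih _ (hn ▸ lt_of_le_of_ne (Subgroup.card_le_card_group M)
      fun h => hM (Subgroup.eq_top_of_card_eq M h)) rfl (hZ.to_subgroup M) _ (by
        rintro _ ⟨k, rfl⟩ z hz
        exact Subtype.ext (hK k k.2 z (congrArg Subtype.val hz)))
  let T : Subgroup Z := sq.ker
  refine solvable_of_range_ker (restrict K M hMinv) inferInstance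
    (solvable_ker_of K _ (solvable_of_stability _ T (fun a _ b _ => mul_comm a b) ?_ ?_))
  · rintro _ ⟨k, -, rfl⟩ z hz
    refine hK k k.2 z ?_
    rw [← pow_two]; exact hz
  · rintro _ ⟨k, hk, rfl⟩ x
    show (x⁻¹ * (k : MulAut Z) x) ^ 2 = 1
    rw [mul_pow, ← map_pow, inv_pow]
    have h : (k : MulAut Z) (x ^ 2) = x ^ 2 :=
      congrArg Subtype.val (DFunLike.congr_fun (MonoidHom.mem_ker.1 hk) (⟨x ^ 2, x, rfl⟩ : M))
    rw [h, inv_mul_cancel]

theorem solvable_fix_involutions {U : Type u} [Group U] [Finite U] (hU : IsPGroup 2 U)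
    (hcen : ∀ x : U, x * x = 1 → x ∈ center U) (K : Subgroup (MulAut U))
    (hK : ∀ k ∈ K, ∀ x : U, x * x = 1 → k x = x) : Group.IsSolvable K := by
  classical
  haveI : Fact (Nat.Prime 2) := ⟨Nat.prime_two⟩
  obtain ⟨C, hchar, hfr, hcomm, hCC⟩ :=
    @CfsgLib.Transfer.exists_critical U _ _ 2 _ hU
  haveI := hchar
  have hCinv : ∀ k ∈ K, ∀ x ∈ C, k x ∈ C := fun k _ x hx => by
    have h := Subgroup.characteristic_iff_comap_eq.1 hchar k
    rw [← h] at hx
    exact hx
  let Z : Subgroup C := center C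
  letI : CommGroup Z :=
    { (inferInstance : Group Z) with
      mul_comm := fun a b => Subtype.ext (mem_center_iff.1 b.2 (a : C)) }
  have hsqZ : ∀ c : C, c * c ∈ Z := by
    intro c
    rw [mem_center_iff]
    intro g
    have h := hfr ⟨c ^ 2, CfsgLib.StructC.pow_mem_frattini (hU.to_subgroup C) c, rfl⟩
    refine Subtype.ext ?_
    have h2 := mem_centralizer_iff.1 h g g.2
    rw [pow_two] at h2
    exact h2
  have hinvZ : ∀ c : C, c * c = 1 → c ∈ Z := fun c hc => mem_center_iff.2 fun g =>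
    Subtype.ext (mem_center_iff.1 (hcen c (congrArg Subtype.val hc)) g)
  have hcommZ : ∀ c d : C, c * d * c⁻¹ * d⁻¹ ∈ Z := by
    intro c d
    rw [mem_center_iff]
    intro g
    have h := (hcomm (Subgroup.commutator_mem_commutator c.2 (mem_top (d : U)))).2
    exact Subtype.ext (mem_centralizer_iff.1 h g g.2)
  -- the image on the critical subgroup
  suffices hR : Group.IsSolvable (restrict K C hCinv).range by
    refine solvable_of_range_ker (restrict K C hCinv) hR
      (solvable_ker_of K _ (solvable_of_stability _ (C ⊓ centralizer (C : Set U))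
        (fun a ha b hb => (mem_centralizer_iff.1 hb.2 a ha.1)) ?_ ?_))
    · rintro _ ⟨k, hk, rfl⟩ z hz
      exact congrArg Subtype.val (DFunLike.congr_fun (MonoidHom.mem_ker.1 hk) (⟨z, hz.1⟩ : C))
    · rintro _ ⟨k, hk, rfl⟩ x
      have hfix : ∀ c ∈ C, (k : MulAut U) c = c := fun c hc =>
        congrArg Subtype.val (DFunLike.congr_fun (MonoidHom.mem_ker.1 hk) (⟨c, hc⟩ : C))
      have hmem : x⁻¹ * (k : MulAut U) x ∈ centralizer (C : Set U) := by
        rw [mem_centralizer_iff]
        intro c hc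
        haveI : C.Normal := Subgroup.normal_of_characteristic C
        have h1 := hfix _ ((inferInstance : C.Normal).conj_mem c hc x)
        rw [map_mul, map_mul, map_inv, hfix c hc] at h1
        calc c * (x⁻¹ * (k : MulAut U) x) = x⁻¹ * (x * c * x⁻¹) * (k : MulAut U) x := by group
          _ = x⁻¹ * ((k : MulAut U) x * c * ((k : MulAut U) x)⁻¹) * (k : MulAut U) x := by rw [h1]
          _ = x⁻¹ * (k : MulAut U) x * c := by group
      exact ⟨hCC hmem, hmem⟩
  set K' := (restrict K C hCinv).range with hK'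
  have hKfix : ∀ k ∈ K', ∀ c : C, c * c = 1 → k c = c := by
    rintro _ ⟨k, rfl⟩ c hc
    exact Subtype.ext (hK k k.2 c (congrArg Subtype.val hc))
  have hZinv : ∀ k ∈ K', ∀ x ∈ Z, k x ∈ Z := fun k _ x hx => mem_center_iff.2 fun g => by
    obtain ⟨g, rfl⟩ := k.surjective g
    rw [← map_mul, ← map_mul, mem_center_iff.1 hx g]
  haveI : Group.IsSolvable (restrict K' Z hZinv).range :=
    solvable_fix_abelian_aux (Nat.card Z) rfl ((hU.to_subgroup C).to_subgroup Z) _ (by
      rintro _ ⟨k, rfl⟩ z hz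
      exact Subtype.ext (hKfix k k.2 z (congrArg Subtype.val hz)))
  -- the kernel of the action on the centre
  refine solvable_of_range_ker (restrict K' Z hZinv) inferInstance (solvable_ker_of K' _ ?_)
  set K1 := ((restrict K' Z hZinv).ker).map K'.subtype with hK1
  have hK1fix : ∀ k ∈ K1, ∀ z ∈ Z, k z = z := by
    rintro _ ⟨k, hk, rfl⟩ z hz
    exact congrArg Subtype.val (DFunLike.congr_fun (MonoidHom.mem_ker.1 hk) (⟨z, hz⟩ : Z))
  have hK1inv : ∀ k ∈ K1, ∀ x ∈ Z, k x ∈ Z := fun k hk x hx => by rw [hK1fix k hk x hx]; exact hx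
  letI instW : CommGroup (C ⧸ Z) :=
    { (inferInstance : Group (C ⧸ Z)) with
      mul_comm := fun a b => by
        induction a using QuotientGroup.induction_on with
        | _ a =>
        induction b using QuotientGroup.induction_on with
        | _ b =>
        rw [← QuotientGroup.mk_mul, ← QuotientGroup.mk_mul, eq_comm, QuotientGroup.eq]
        have h := hcommZ a⁻¹ b⁻¹
        have e : (b * a)⁻¹ * (a * b) = a⁻¹ * b⁻¹ * a⁻¹⁻¹ * b⁻¹⁻¹ := by group
        rw [e]; exact h }
  let sq : Z →* Z := powMonoidHom 2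
  let sqQ : C → Z ⧸ sq.range := fun c => ((⟨c * c, hsqZ c⟩ : Z) : Z ⧸ sq.range)
  have hsq : ∀ a b : C, QuotientGroup.leftRel Z a b → sqQ a = sqQ b := by
    intro a b h
    rw [QuotientGroup.leftRel_apply] at h
    obtain ⟨z, hz, rfl⟩ : ∃ z ∈ Z, b = a * z := ⟨a⁻¹ * b, h, by group⟩
    refine QuotientGroup.eq.2 ⟨⟨z, hz⟩, Subtype.ext ?_⟩
    show z ^ 2 = (a * a)⁻¹ * (a * z * (a * z))
    rw [show a * z * (a * z) = a * (z * a) * z by group, ← mem_center_iff.1 hz a, pow_two]
    group
  have hone : ∀ z : Z, ((z * z : Z) : Z ⧸ sq.range) = 1 := fun z =>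
    (QuotientGroup.eq_one_iff _).2 ⟨z, pow_two z⟩
  have hcom : ∀ a b : C, a * b * a⁻¹ * b⁻¹ ∈ Z := hcommZ
  let comm : C → C → Z := fun a b => ⟨b * a * b⁻¹ * a⁻¹, hcom b a⟩
  have hsqmul : ∀ a b : C, sqQ (a * b) * sqQ a * sqQ b = (comm a b : Z ⧸ sq.range) := by
    intro a b
    have e : (⟨a * b * (a * b), hsqZ (a * b)⟩ : Z) =
        comm a b * ⟨a * a, hsqZ a⟩ * ⟨b * b, hsqZ b⟩ := by
      apply Subtype.ext
      show a * b * (a * b) = b * a * b⁻¹ * a⁻¹ * (a * a) * (b * b)
      have h1 := mem_center_iff.1 (hcom b a) a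
      calc a * b * (a * b) = a * (b * a * b⁻¹ * a⁻¹) * (a * b) * b := by group
        _ = b * a * b⁻¹ * a⁻¹ * a * (a * b) * b := by rw [h1]
        _ = _ := by group
    show (_ : Z ⧸ sq.range) * _ * _ = _
    simp only [sqQ]
    rw [e, QuotientGroup.mk_mul, QuotientGroup.mk_mul]
    generalize ((comm a b : Z) : Z ⧸ sq.range) = x
    have ha := hone ⟨a * a, hsqZ a⟩
    have hb := hone ⟨b * b, hsqZ b⟩
    rw [QuotientGroup.mk_mul] at ha hb
    rw [mul_right_comm _ _ ((⟨a * a, hsqZ a⟩ : Z) : Z ⧸ sq.range), mul_assoc x, ha, mul_one,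
      mul_assoc, hb, mul_one]
  have hcadd : ∀ a a' b : C, comm (a * a') b = comm a b * comm a' b := by
    intro a a' b
    apply Subtype.ext
    show b * (a * a') * b⁻¹ * (a * a')⁻¹ = b * a * b⁻¹ * a⁻¹ * (b * a' * b⁻¹ * a'⁻¹)
    have h1 := mem_center_iff.1 (hcom b a') a
    calc b * (a * a') * b⁻¹ * (a * a')⁻¹
        = b * a * b⁻¹ * ((b * a' * b⁻¹ * a'⁻¹) * a⁻¹) := by group
      _ = b * a * b⁻¹ * (a⁻¹ * (b * a' * b⁻¹ * a'⁻¹)) := by
          rw [← mem_center_iff.1 (hcom b a') a⁻¹]
      _ = _ := by group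
  let F : Form (C ⧸ Z) (Z ⧸ sq.range) :=
    { q := fun x => Quotient.liftOn' x sqQ hsq
      sqW := fun x => by
        induction x using QuotientGroup.induction_on with
        | _ a => exact (QuotientGroup.eq_one_iff _).2 (hsqZ a)
      sqQ := fun x => by
        induction x using QuotientGroup.induction_on with
        | _ a => rw [← QuotientGroup.mk_mul]; exact hone a
      add := fun x x' y => by
        induction x using QuotientGroup.induction_on with
        | _ a =>
        induction x' using QuotientGroup.induction_on with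
        | _ a' =>
        induction y using QuotientGroup.induction_on with
        | _ c =>
        show sqQ (a * a' * c) * sqQ (a * a') * sqQ c =
          (sqQ (a * c) * sqQ a * sqQ c) * (sqQ (a' * c) * sqQ a' * sqQ c)
        rw [hsqmul, hsqmul, hsqmul, hcadd, QuotientGroup.mk_mul]
      aniso := fun x h => by
        induction x using QuotientGroup.induction_on with
        | _ a =>
        obtain ⟨⟨z, hz⟩, hzq⟩ := (QuotientGroup.eq_one_iff (⟨a * a, hsqZ a⟩ : Z)).1 h
        have h1 : z ^ 2 = a * a := congrArg Subtype.val hzq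
        refine (QuotientGroup.eq_one_iff a).2 ?_
        have h2 : (a * z⁻¹) * (a * z⁻¹) = 1 := by
          rw [show a * z⁻¹ * (a * z⁻¹) = a * (z⁻¹ * a) * z⁻¹ by group,
            ← mem_center_iff.1 (inv_mem hz) a, ← mul_assoc, ← h1, pow_two]
          group
        simpa using mul_mem (hinvZ _ h2) hz }
  haveI : Group.IsSolvable (quotHom K1 Z hK1inv).range := Form.Inv.solvable (F := F) (by
    rintro _ ⟨k, rfl⟩ x
    induction x using QuotientGroup.induction_on with
    | _ a =>
    show sqQ ((k : MulAut C) a) = sqQ a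
    refine congrArg (fun z : Z => (z : Z ⧸ sq.range)) (Subtype.ext ?_)
    show (k : MulAut C) a * (k : MulAut C) a = a * a
    rw [← map_mul, hK1fix k k.2 _ (hsqZ a)])
  refine solvable_of_range_ker (quotHom K1 Z hK1inv) inferInstance
    (solvable_ker_of K1 _ (solvable_of_stability _ Z
      (fun a ha b _ => (mem_center_iff.1 ha b).symm) ?_ ?_))
  · rintro _ ⟨k, -, rfl⟩ z hz
    exact hK1fix k k.2 z hz
  · rintro _ ⟨k, hk, rfl⟩ x
    have h := DFunLike.congr_fun (MonoidHom.mem_ker.1 hk) (x : C ⧸ Z)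
    rw [quotHom_mk] at h
    exact QuotientGroup.eq.1 h.symm

end CfsgLib.Invol.OutSolv
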